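import Mathlib
import Cfsg.Agent.H357.ChebMid
set_option linter.all false

/-!
# Number theory for the recognition of the symmetric groups (helper357)

* `two_primes` : two primes in `(4n/5, n]` for `n ≥ 41`;
* `exists_rep` : every `M ≥ 28` is a sum of distinct odd primes `≠ t`;
* `exists_large_dvd` : no prime in `(m, n]` (Sylvester): a prime `t > n - m` divides a number of `(m, n]`.
-/

set_option autoImplicit false

namespace Cfsg.Agent.H357.NT

open Finset Cfsg.Agent.H357.Cheb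

/-! ### two primes in `(4n/5, n]` -/

def pairs : List (ℕ × ℕ × ℕ) := [(37, 41, 47), (43, 47, 54), (47, 53, 59), (53, 59, 67), (61, 67, 77), (71, 73, 89), (83, 89, 104), (101, 103,
    127), (113, 127, 142), (137, 139, 172), (163, 167, 204), (197, 199, 247), (239, 241, 299), (283, 293, 354),
    (349, 353, 437), (431, 433, 539), (521, 523, 652), (643, 647, 804), (787, 797, 984), (977, 983, 1222),
    (1213, 1217, 1517), (1499, 1511, 1874), (1871, 1873, 2339), (2333, 2339, 2917), (2909, 2917, 3637), (3631,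
    3637, 4539), (4519, 4523, 5649), (5641, 5647, 7052), (7039, 7043, 8799), (8779, 8783, 10974), (10957, 10973,
    13697), (13693, 13697, 17117), (17107, 17117, 21384), (21379, 21383, 26724), (26717, 26723, 33397), (33377,
    33391, 41722), (41687, 41719, 52109), (52081, 52103, 65102)]

def chkPairs : ℕ → List (ℕ × ℕ × ℕ) → Bool
  | x, [] => Nat.ble 60000 x
  | x, c :: l => Nat.ble c.2.1 x && Nat.blt c.1 c.2.1 && isP c.1 && isP c.2.1 && Nat.blt (4 * (c.2.2 - 1)) (5 * c.1) &&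
      chkPairs c.2.2 l

theorem of_chkPairs : ∀ (l : List (ℕ × ℕ × ℕ)) (x : ℕ), chkPairs x l = true → ∀ n, x ≤ n → n < 60000 →
    ∃ r s : ℕ, r.Prime ∧ s.Prime ∧ 4 * n < 5 * r ∧ r < s ∧ s ≤ n
  | [], x, h, n, h1, h2 => by
    unfold chkPairs at h
    rw [Nat.ble_eq] at h
    omega
  | c :: l, x, h, n, h1, h2 => by
    unfold chkPairs at h
    simp only [Bool.and_eq_true, Nat.ble_eq, Nat.blt_eq] at h
    obtain ⟨⟨⟨⟨⟨h3, h4⟩, h5⟩, h6⟩, h7⟩, h8⟩ := h
    by_cases hb : c.2.2 ≤ n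
    · exact of_chkPairs l c.2.2 h8 n hb h2
    · exact ⟨c.1, c.2.1, prime_of_isP h5, prime_of_isP h6, by omega, h4, by omega⟩

theorem chkPairs_ok : chkPairs 41 pairs = true := by decide +kernel

/-- **Two primes in `(4n/5, n]`** for `n ≥ 41`. -/
theorem two_primes {n : ℕ} (hn : 41 ≤ n) : ∃ r s : ℕ, r.Prime ∧ s.Prime ∧ 4 * n < 5 * r ∧ r < s ∧ s ≤ n := by
  by_cases h : n < 60000
  · exact of_chkPairs pairs 41 chkPairs_ok n hn h
  · exact two_primes_large (by omega)

/-! ### sums of distinct odd primes -/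

/-- a list of distinct odd primes (increasing) -/
def incP : ℕ → List ℕ → Bool
  | _, [] => true
  | x, t :: l => Nat.blt x t && (Nat.beq t 3 || isP t) && incP t l

theorem prime_or {t : ℕ} (h : (Nat.beq t 3 || isP t) = true) : t.Prime ∧ t ≠ 2 := by
  rw [Bool.or_eq_true, Nat.beq_eq] at h
  rcases h with rfl | h
  · exact ⟨Nat.prime_three, by norm_num⟩
  · refine ⟨prime_of_isP h, ?_⟩
    rintro rfl
    exact absurd h (by decide)

theorem incP_spec : ∀ (l : List ℕ) (x : ℕ), incP x l = true → l.Nodup ∧ ∀ t ∈ l, x < t ∧ t.Prime ∧ t ≠ 2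
  | [], x, _ => ⟨List.nodup_nil, fun t ht => absurd ht List.not_mem_nil⟩
  | t :: l, x, h => by
    unfold incP at h
    simp only [Bool.and_eq_true, Nat.blt_eq] at h
    obtain ⟨⟨h1, h2⟩, h3⟩ := h
    obtain ⟨h4, h5⟩ := incP_spec l t h3
    refine ⟨List.nodup_cons.2 ⟨fun ht => ?_, h4⟩, fun a ha => ?_⟩
    · have := (h5 t ht).1
      omega
    · rcases List.mem_cons.1 ha with rfl | ha
      · exact ⟨h1, prime_or h2⟩
      · obtain ⟨h6, h7⟩ := h5 a ha
        exact ⟨by omega, h7⟩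

/-- `M` is a sum of distinct odd primes `≠ t` -/
def Rep (M t : ℕ) : Prop := ∃ P : Finset ℕ, (∀ p ∈ P, p.Prime ∧ p ≠ 2 ∧ p ≠ t) ∧ ∑ p ∈ P, p = M

theorem rep_of_list {l : List ℕ} {M t : ℕ} (h : incP 0 l = true) (hs : l.sum = M) (ht : t ∉ l) : Rep M t := by
  obtain ⟨h1, h2⟩ := incP_spec l 0 h
  refine ⟨⟨(l : Multiset ℕ), h1⟩, fun p hp => ?_, ?_⟩
  · have hp' : p ∈ l := hp
    exact ⟨(h2 p hp').2.1, (h2 p hp').2.2, fun e => ht (e ▸ hp')⟩
  · rw [← hs]
    simp [Finset.sum]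

def rich : List (List ℕ × List ℕ × List ℕ) := [([5, 23], [11, 17], [11, 17]), ([29], [3, 7, 19], [3, 7, 19]), ([7, 23], [11, 19], [11, 19]), ([31], [3, 5,
    23], [3, 5, 23]), ([3, 29], [13, 19], [13, 19]), ([3, 7, 23], [5, 11, 17], [5, 11, 17]), ([3, 31], [5, 29],
    [5, 29]), ([3, 13, 19], [5, 7, 23], [5, 7, 23]), ([5, 31], [7, 29], [7, 29]), ([37], [3, 5, 29], [3, 5,
    29]), ([7, 31], [3, 5, 11, 19], [3, 5, 11, 19]), ([3, 5, 31], [7, 13, 19], [7, 13, 19]), ([3, 37], [11, 29],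
    [11, 29]), ([41], [3, 7, 31], [3, 7, 31]), ([5, 37], [11, 31], [11, 31]), ([43], [3, 11, 29], [3, 11, 29]),
    ([3, 41], [7, 37], [7, 37]), ([3, 11, 31], [5, 17, 23], [5, 17, 23]), ([3, 43], [5, 41], [5, 41]), ([47],
    [3, 7, 37], [3, 7, 37]), ([5, 43], [7, 41], [7, 41]), ([3, 5, 41], [7, 11, 31], [7, 11, 31]), ([3, 47], [7,
    43], [7, 43]), ([3, 5, 43], [7, 13, 31], [7, 13, 31]), ([5, 47], [11, 41], [11, 41]), ([53], [3, 7, 43], [3,
    7, 43]), ([7, 47], [11, 43], [11, 43]), ([3, 5, 47], [7, 11, 37], [7, 11, 37]), ([3, 53], [13, 43], [13,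
    43]), ([3, 7, 47], [5, 11, 41], [5, 11, 41]), ([5, 53], [11, 47], [11, 47]), ([59], [3, 13, 43], [3, 13,
    43]), ([7, 53], [13, 47], [13, 47]), ([61], [3, 5, 53], [3, 5, 53]), ([3, 59], [19, 43], [19, 43]), ([3, 7,
    53], [5, 11, 47], [5, 11, 47]), ([3, 61], [5, 59], [5, 59]), ([3, 19, 43], [5, 7, 53], [5, 7, 53]), ([5,
    61], [7, 59], [7, 59]), ([67], [3, 5, 59], [3, 5, 59]), ([7, 61], [31, 37], [31, 37]), ([3, 5, 61], [7, 19,
    43], [7, 19, 43]), ([3, 67], [11, 59], [11, 59]), ([71], [3, 7, 61], [3, 7, 61]), ([5, 67], [11, 61], [11,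
    61]), ([73], [3, 11, 59], [3, 11, 59]), ([3, 71], [7, 67], [7, 67])]

def chkRich : ℕ → List (List ℕ × List ℕ × List ℕ) → Bool
  | x, [] => Nat.ble 75 x
  | x, c :: l => incP 0 c.1 && incP 0 c.2.1 && incP 0 c.2.2 && Nat.beq c.1.sum x && Nat.beq c.2.1.sum x &&
      Nat.beq c.2.2.sum x && (c.1.all fun t => !(c.2.1.contains t && c.2.2.contains t)) && chkRich (x + 1) l

theorem of_chkRich : ∀ (l : List (List ℕ × List ℕ × List ℕ)) (x : ℕ), chkRich x l = true → ∀ M, x ≤ M → M < 75 →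
    ∀ t, Rep M t
  | [], x, h, M, h1, h2, t => by
    unfold chkRich at h
    rw [Nat.ble_eq] at h
    omega
  | c :: l, x, h, M, h1, h2, t => by
    unfold chkRich at h
    simp only [Bool.and_eq_true, Nat.beq_eq, List.all_eq_true] at h
    obtain ⟨⟨⟨⟨⟨⟨⟨a1, a2⟩, a3⟩, b1⟩, b2⟩, b3⟩, hd⟩, h8⟩ := h
    by_cases hb : x + 1 ≤ M
    · exact of_chkRich l (x + 1) h8 M hb h2 t
    · have hx : M = x := by omega
      subst hx
      by_cases t1 : t ∈ c.1
      · by_cases t2 : t ∈ c.2.1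
        · by_cases t3 : t ∈ c.2.2
          · exfalso
            have h9 := hd t t1
            rw [Bool.not_eq_true', Bool.and_eq_false_iff] at h9
            rcases h9 with h9 | h9
            · rw [List.contains_iff_mem.2 t2] at h9
              exact absurd h9 (by decide)
            · rw [List.contains_iff_mem.2 t3] at h9
              exact absurd h9 (by decide)
          · exact rep_of_list a3 b3 t3
        · exact rep_of_list a2 b2 t2
      · exact rep_of_list a1 b1 t1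

theorem chkRich_ok : chkRich 28 rich = true := by decide +kernel

theorem exists_rep {M : ℕ} (hM : 28 ≤ M) (t : ℕ) : Rep M t := by
  induction M using Nat.strong_induction_on with
  | _ M ih =>
  by_cases h75 : M < 75
  · exact of_chkRich rich 28 chkRich_ok M hM h75 t
  · obtain ⟨r, s, hr, hs, h1, h2, h3⟩ := two_primes (n := M - 28) (by omega)
    obtain ⟨p, hp, hpt, hp1, hp2⟩ : ∃ p : ℕ, p.Prime ∧ p ≠ t ∧ 4 * (M - 28) < 5 * p ∧ p ≤ M - 28 := by
      by_cases hrt : r = t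
      · exact ⟨s, hs, by omega, by omega, h3⟩
      · exact ⟨r, hr, hrt, h1, by omega⟩
    obtain ⟨P, hP, hsum⟩ := ih (M - p) (by omega) (by omega)
    have hpP : p ∉ P := fun hmem => by
      have h5 : p ≤ ∑ x ∈ P, x := Finset.single_le_sum (f := fun x : ℕ => x) (fun i _ => Nat.zero_le i) hmem
      omega
    refine ⟨insert p P, fun q hq => ?_, ?_⟩
    · rcases Finset.mem_insert.1 hq with rfl | hq
      · exact ⟨hp, by omega, hpt⟩
      · exact hP q hq
    · rw [Finset.sum_insert hpP, hsum]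
      omega

end Cfsg.Agent.H357.NT
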