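import Mathlib
import Cfsg.Agent.H363.AltPrimes
import Cfsg.Agent.Prune
set_option linter.all false
prune_inst 0x7f00000000000000000000000000000000000000000000000000000000000000000000000000000000000000000000000000000000000000000000000000000000000000000000000000000000000000003fffffffffffffffffffffffffffbeffbdffffffff
open scoped Cfsg.Agent.FastGrp

/-!
# Orders of permutations and sums of primes (helper357)

* `sum_le_of_dvd_order` : distinct primes dividing the order of a permutation of degree `n` have sum at most `n`;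
* `exists_order_prod` : distinct odd primes with sum at most `m`: an element of `A_m` whose order is their product.
-/

set_option autoImplicit false

namespace Cfsg.Agent.H357.PermOrd

open Equiv Finset

theorem two_le_prod {P : Finset ℕ} (hP : ∀ p ∈ P, 2 ≤ p) (hne : P.Nonempty) : 2 ≤ ∏ p ∈ P, p := by
  obtain ⟨a, ha⟩ := hne
  have h1 : a ∣ ∏ p ∈ P, p := Finset.dvd_prod_of_mem (fun p : ℕ => p) ha
  have h2 : 0 < ∏ p ∈ P, p := Finset.prod_pos fun p hp => by have := hP p hp; omega
  exact (hP a ha).trans (Nat.le_of_dvd h2 h1)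

theorem sum_le_prod {P : Finset ℕ} (hP : ∀ p ∈ P, 2 ≤ p) : ∑ p ∈ P, p ≤ ∏ p ∈ P, p := by
  classical
  induction P using Finset.induction_on with
  | empty => simp
  | insert a s ha ih =>
    rw [sum_insert ha, prod_insert ha]
    have h1 := ih fun p hp => hP p (mem_insert_of_mem hp)
    have h2 := hP a (mem_insert_self a s)
    rcases s.eq_empty_or_nonempty with rfl | hne
    · simp
    · have h3 := two_le_prod (fun p hp => hP p (mem_insert_of_mem hp)) hne
      nlinarith

theorem prime_dvd_lcm_or {p a : ℕ} (hp : p.Prime) {m : Multiset ℕ} (h : p ∣ (a ::ₘ m).lcm) : p ∣ a ∨ p ∣ m.lcm := by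
  rw [Multiset.lcm_cons] at h
  exact (Nat.Prime.dvd_lcm hp).mp h

theorem sum_le_of_dvd_lcm : ∀ (m : Multiset ℕ), (∀ a ∈ m, 0 < a) → ∀ P : Finset ℕ, (∀ p ∈ P, p.Prime ∧ p ∣ m.lcm) →
    ∑ p ∈ P, p ≤ m.sum := by
  classical
  intro m
  induction m using Multiset.induction_on with
  | empty =>
    intro _ P hP
    rcases P.eq_empty_or_nonempty with rfl | ⟨p, hp⟩
    · simp
    · exfalso
      obtain ⟨h1, h2⟩ := hP p hp
      rw [Multiset.lcm_zero] at h2
      exact h1.one_lt.ne' (Nat.dvd_one.mp h2)
  | cons a m ih =>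
    intro hpos P hP
    have h1 : ∑ p ∈ P with p ∣ a, p ≤ a := by
      refine (sum_le_prod fun p hp => ?_).trans ?_
      · exact (hP p (mem_filter.1 hp).1).1.two_le
      · apply Nat.le_of_dvd (hpos a (Multiset.mem_cons_self a m))
        apply Finset.prod_primes_dvd
        · intro p hp
          exact (hP p (mem_filter.1 hp).1).1.prime
        · intro p hp
          exact (mem_filter.1 hp).2
    have h2 : ∑ p ∈ P with ¬ p ∣ a, p ≤ m.sum := by
      apply ih (fun b hb => hpos b (Multiset.mem_cons_of_mem hb))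
      intro p hp
      rw [mem_filter] at hp
      obtain ⟨h3, h4⟩ := hP p hp.1
      exact ⟨h3, (prime_dvd_lcm_or h3 h4).resolve_left hp.2⟩
    rw [Multiset.sum_cons, ← sum_filter_add_sum_filter_not P (fun p => p ∣ a)]
    exact Nat.add_le_add h1 h2

theorem sum_le_of_dvd_order {n : ℕ} (σ : Perm (Fin n)) {P : Finset ℕ}
    (hP : ∀ p ∈ P, p.Prime ∧ p ∣ orderOf σ) : ∑ p ∈ P, p ≤ n := by
  have h1 := sum_le_of_dvd_lcm σ.cycleType
    (fun a ha => lt_of_lt_of_le two_pos (Perm.two_le_of_mem_cycleType ha)) P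
    (fun p hp => by rw [Perm.lcm_cycleType]; exact hP p hp)
  refine h1.trans ?_
  rw [Perm.sum_cycleType]
  simpa using σ.support.card_le_univ

theorem nonAdj {n r t : ℕ} (hr : r.Prime) (ht : t.Prime) (hrt : r ≠ t) (h : n < r + t) :
    Cfsg.Agent.H363.Frat.NonAdj (Perm (Fin n)) r t := by
  intro σ hσ
  have h1 := sum_le_of_dvd_order σ (P := {r, t}) (by
    intro p hp
    rw [mem_insert, mem_singleton] at hp
    rw [hσ]
    rcases hp with rfl | rfl
    · exact ⟨hr, Nat.dvd_mul_right _ _⟩
    · exact ⟨ht, Nat.dvd_mul_left _ _⟩)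
  rw [sum_pair hrt] at h1
  omega

theorem lcm_eq_prod {P : Finset ℕ} (hP : ∀ p ∈ P, p.Prime) : (P.val).lcm = ∏ p ∈ P, p := by
  classical
  induction P using Finset.induction_on with
  | empty => simp
  | insert a s ha ih =>
    have h1 := ih fun p hp => hP p (mem_insert_of_mem hp)
    rw [prod_insert ha, ← h1, insert_val_of_notMem ha, Multiset.lcm_cons, h1]
    apply Nat.Coprime.lcm_eq_mul
    apply Nat.Coprime.prod_right
    intro p hp
    rw [Nat.coprime_primes (hP a (mem_insert_self a s)) (hP p (mem_insert_of_mem hp))]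
    rintro rfl
    exact ha hp

theorem exists_order_prod {m : ℕ} {P : Finset ℕ} (hP : ∀ p ∈ P, p.Prime ∧ p ≠ 2) (hs : ∑ p ∈ P, p ≤ m) :
    ∃ g : alternatingGroup (Fin m), orderOf g = ∏ p ∈ P, p := by
  classical
  obtain ⟨σ, hσ⟩ := (Perm.exists_with_cycleType_iff (α := Fin m) (m := P.val)).2 ⟨by
    rw [Fintype.card_fin, Finset.sum_val]
    exact hs, fun a ha => (hP a ha).1.two_le⟩
  have hsign : σ ∈ alternatingGroup (Fin m) := by
    rw [Perm.mem_alternatingGroup, Perm.sign_of_cycleType, hσ]
    have hsum : ∀ Q : Finset ℕ, (∀ p ∈ Q, p.Prime ∧ p ≠ 2) → Even (Q.val.sum + Multiset.card Q.val) := by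
      intro Q
      induction Q using Finset.induction_on with
      | empty => intro _; simp
      | insert a s ha ih =>
        intro h
        rw [insert_val_of_notMem ha, Multiset.sum_cons, Multiset.card_cons]
        have h1 := ih fun p hp => h p (mem_insert_of_mem hp)
        have h2 := (h a (mem_insert_self a s)).1.odd_of_ne_two (h a (mem_insert_self a s)).2
        obtain ⟨b, hb⟩ := h1
        obtain ⟨c, hc⟩ := h2
        exact ⟨b + c + 1, by omega⟩
    exact Even.neg_one_pow (hsum P hP)
  refine ⟨⟨σ, hsign⟩, ?_⟩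
  rw [← Subgroup.orderOf_coe]
  change orderOf σ = _
  rw [← Perm.lcm_cycleType, hσ, lcm_eq_prod fun p hp => (hP p hp).1]

end Cfsg.Agent.H357.PermOrd
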