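import Mathlib
import Cfsg.Agent.H363.AltPrimes
import Cfsg.Agent.H357.NT
import Cfsg.Agent.Prune
set_option linter.all false
prune_inst 0x7f00000000000000000000000000000000000000000000000000000000000000000000000000000000000000000000000000000000000000000000000000000000000000000000000000000000000000003fffffffffffffffffffffffffffbeffbdffffffff
open scoped Cfsg.Agent.FastGrp

-- part: H357/Reduce
section
/-!
# Reduction to a simple section (helper357)

`G` a finite group, `|G|` divides `n!`, the odd part of `|G|` is the odd part of `n!`, and primes `r ≠ t` with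
`r + t > n` are not adjacent: there is a normal subgroup `N` such that `G / N` has a simple nonabelian normal
subgroup `M` with trivial centralizer, containing all primes of `(n/2, n]`.
-/

set_option autoImplicit false

namespace Cfsg.Agent.H357.Reduce

open Subgroup Cfsg.Agent.H363.Frat Cfsg.Agent.H363.AltPrimes

/-- `p` and `s` both greater than `n/2` and at most `n`: `p` does not divide `s - 1`. -/
theorem not_dvd_sub_one {n p s : ℕ} (hn : 11 ≤ n) (hp : p.Prime) (hs : s.Prime)
    (hnp : n < 2 * p) (hsn : s ≤ n) : ¬ p ∣ s - 1 := by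
  rintro ⟨c, hc⟩
  have hs2 := hs.two_le
  have hc1 : c < 2 := by
    by_contra h
    have : p * 2 ≤ p * c := Nat.mul_le_mul_left p (by omega)
    omega
  have hc0 : c ≠ 0 := by
    rintro rfl
    omega
  have hc2 : c = 1 := by omega
  subst hc2
  rcases hp.eq_two_or_odd' with h | ⟨k, hk⟩
  · omega
  · rcases hs.eq_two_or_odd' with h | ⟨l, hl⟩
    · omega
    · omega

/-- the data of the reduction -/
structure Data (G : Type*) [Group G] (n : ℕ) (N : Subgroup G) [N.Normal] (M : Subgroup (G ⧸ N)) : Prop where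
  normal : M.Normal
  simple : IsSimpleGroup M
  nonab : ¬ ∀ a b : M, a * b = b * a
  cent : centralizer (M : Set (G ⧸ N)) = ⊥
  primes : ∀ p : ℕ, p.Prime → n < 2 * p → p ≤ n → p ∣ Nat.card M

/-- the hypotheses on `G` -/
structure Hyp (G : Type*) [Group G] (n : ℕ) : Prop where
  dvd : Nat.card G ∣ n.factorial
  odd : ∀ p : ℕ, p.Prime → p ≠ 2 → (Nat.card G).factorization p = n.factorial.factorization p
  adj : ∀ r t : ℕ, r.Prime → t.Prime → r ≠ t → n < r + t → NonAdj G r t

theorem card_eq {G : Type*} [Group G] (N : Subgroup G) [N.Normal] (M : Subgroup (G ⧸ N)) :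
    Nat.card G = Nat.card N * (Nat.card M * M.index) := by
  rw [M.card_mul_index, ← Subgroup.index_eq_card, N.card_mul_index]

theorem exists_data {G : Type*} [Group G] [Finite G] {n : ℕ} (hn : 11 ≤ n) (h : Hyp G n) :
    ∃ (N : Subgroup G) (_ : N.Normal) (M : Subgroup (G ⧸ N)), Data G n N M := by
  obtain ⟨p, s, hp, hs, hnp, hps, hsn⟩ := Cfsg.Agent.H363.TwoPrimes.exists_two_primes' n hn
  -- the primes in `(n/2, n]` divide `|G|` exactly once
  have hfac : ∀ r : ℕ, r.Prime → n < 2 * r → r ≤ n → (Nat.card G).factorization r = 1 := by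
    intro r hr h1 h2
    rw [h.odd r hr (by omega)]
    exact factorization_factorial hr h2 h1
  have hadj : ∀ r t : ℕ, r.Prime → t.Prime → r ≠ t → n < 2 * r → n < 2 * t → NonAdj G r t := by
    intro r t hr ht hrt h1 h2
    exact h.adj r t hr ht hrt (by omega)
  have hpG : p ∣ Nat.card G := by
    rw [hp.dvd_iff_one_le_factorization Nat.card_pos.ne', hfac p hp hnp (by omega)]
  -- a maximal normal `p'`-subgroup
  obtain ⟨N, ⟨hNn, hNp⟩, hNmax⟩ : ∃ N : Subgroup G, (N.Normal ∧ ¬ p ∣ Nat.card N) ∧
      ∀ L : Subgroup G, (L.Normal ∧ ¬ p ∣ Nat.card L) → N ≤ L → L = N := by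
    have hfin : {L : Subgroup G | L.Normal ∧ ¬ p ∣ Nat.card L}.Finite := Set.toFinite _
    obtain ⟨N, hN⟩ := hfin.exists_maximal ⟨⊥, Subgroup.normal_bot, by
      rw [Subgroup.card_bot]; exact fun h => hp.one_lt.ne' (Nat.dvd_one.mp h)⟩
    exact ⟨N, hN.1, fun L hL hNL => le_antisymm (hN.2 hL hNL) hNL⟩
  have hpidx : p ∣ N.index := by
    have h1 := N.card_mul_index
    rw [← h1] at hpG
    rcases hp.dvd_mul.mp hpG with h | h
    · exact absurd h hNp
    · exact h
  -- a normal subgroup of `G / N` which is not trivial has order divisible by `p`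
  have hquot : ∀ M : Subgroup (G ⧸ N), M.Normal → M ≠ ⊥ → p ∣ Nat.card M := by
    intro M hMn hM0
    have hHn : (M.comap (QuotientGroup.mk' N)).Normal := hMn.comap _
    have hNH : N ≤ M.comap (QuotientGroup.mk' N) := by
      intro x hx
      rw [mem_comap]
      have : QuotientGroup.mk' N x = 1 := (QuotientGroup.eq_one_iff x).mpr hx
      rw [this]
      exact one_mem _
    have hHN : M.comap (QuotientGroup.mk' N) ≠ N := by
      intro h
      apply hM0
      rw [eq_bot_iff]
      intro y hy
      obtain ⟨x, rfl⟩ := QuotientGroup.mk'_surjective N y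
      have : x ∈ M.comap (QuotientGroup.mk' N) := hy
      rw [h] at this
      exact Subgroup.mem_bot.mpr ((QuotientGroup.eq_one_iff x).mpr this)
    have hpH : p ∣ Nat.card (M.comap (QuotientGroup.mk' N)) := by
      by_contra h
      exact hHN (hNmax _ ⟨hHn, h⟩ hNH)
    have h1 : Nat.card (M.comap (QuotientGroup.mk' N)) = Nat.card N * Nat.card M := by
      have h2 := (M.comap (QuotientGroup.mk' N)).card_mul_index
      have h3 : (M.comap (QuotientGroup.mk' N)).index = M.index :=
        M.index_comap_of_surjective (QuotientGroup.mk'_surjective N)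
      rw [h3, card_eq N M, ← mul_assoc] at h2
      exact Nat.eq_of_mul_eq_mul_right (Nat.pos_of_ne_zero M.index_ne_zero_of_finite) h2
    rw [h1] at hpH
    rcases hp.dvd_mul.mp hpH with h | h
    · exact absurd h hNp
    · exact h
  -- a minimal normal subgroup of `G / N`
  obtain ⟨M, hMn, hM0, hMmin⟩ : ∃ M : Subgroup (G ⧸ N), M.Normal ∧ M ≠ ⊥ ∧
      ∀ L : Subgroup (G ⧸ N), L.Normal → L ≤ M → L = ⊥ ∨ L = M := by
    have hfin : {L : Subgroup (G ⧸ N) | L.Normal ∧ L ≠ ⊥}.Finite := Set.toFinite _
    obtain ⟨M, hM⟩ := hfin.exists_minimal ⟨⊤, Subgroup.normal_top, by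
      intro h
      have h2 : Nat.card (G ⧸ N) = 1 := by
        have := Subgroup.card_top (G := G ⧸ N)
        rw [h, Subgroup.card_bot] at this
        exact this.symm
      rw [← Subgroup.index_eq_card] at h2
      rw [h2] at hpidx
      exact hp.one_lt.ne' (Nat.dvd_one.mp hpidx)⟩
    refine ⟨M, hM.1.1, hM.1.2, fun L hL hLM => ?_⟩
    by_cases h : L = ⊥
    · exact Or.inl h
    · exact Or.inr (le_antisymm hLM (hM.2 ⟨hL, h⟩ hLM))
  have hpM : p ∣ Nat.card M := hquot M hMn hM0
  have hMG : Nat.card M * M.index ∣ Nat.card G := by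
    rw [card_eq N M]
    exact Nat.dvd_mul_left _ _
  have hp2 : ∀ r : ℕ, r.Prime → n < 2 * r → r ≤ n → ¬ r ^ 2 ∣ Nat.card G := by
    intro r hr h1 h2 h3
    have h4 := (hr.pow_dvd_iff_le_factorization Nat.card_pos.ne').mp h3
    rw [hfac r hr h1 h2] at h4
    omega
  have hp2M : ¬ p ^ 2 ∣ Nat.card M := fun h =>
    hp2 p hp hnp (by omega) ((h.trans (Nat.dvd_mul_right _ _)).trans hMG)
  have hsimple : IsSimpleGroup M := isSimple_of_minimal M hMmin hp hpM hp2M
  have hall : ∀ t : ℕ, t.Prime → n < 2 * t → t ≤ n → t ∣ Nat.card M := by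
    intro t ht hnt htn
    by_cases htp : t = p
    · rw [htp]; exact hpM
    have htG : t ∣ Nat.card G := by
      rw [ht.dvd_iff_one_le_factorization Nat.card_pos.ne', hfac t ht hnt htn]
    -- `t` does not divide `|N|`
    have htN : ¬ t ∣ Nat.card N := by
      intro h
      have h1 : (Nat.card N).factorization t = 1 := by
        have h2 : 1 ≤ (Nat.card N).factorization t :=
          (ht.dvd_iff_one_le_factorization Nat.card_pos.ne').mp h
        have h3 : (Nat.card N).factorization t ≤ (Nat.card G).factorization t :=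
          (Nat.factorization_le_iff_dvd Nat.card_pos.ne' Nat.card_pos.ne').mpr
            (Subgroup.card_subgroup_dvd_card N) t
        rw [hfac t ht hnt htn] at h3
        omega
      have h4 := pow_dvd_of_normal hp ht (Ne.symm htp)
        (hadj p t hp ht (Ne.symm htp) hnp hnt) N (k := 1) (by rw [pow_one]; exact hpidx)
      rw [h1, pow_one, pow_one] at h4
      exact not_dvd_sub_one hn hp ht hnp htn h4
    -- `t` does not divide `|G : H|`
    have htH : ¬ t ∣ M.index := by
      intro h
      have h1 : (Nat.card M).factorization p = 1 := by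
        have h2 : 1 ≤ (Nat.card M).factorization p :=
          (hp.dvd_iff_one_le_factorization Nat.card_pos.ne').mp hpM
        have h3 : ¬ 2 ≤ (Nat.card M).factorization p := fun h4 =>
          hp2M ((hp.pow_dvd_iff_le_factorization Nat.card_pos.ne').mpr h4)
        omega
      have h4 := pow_dvd_of_normal ht hp htp
        ((hadj t p ht hp htp hnt hnp).quotient N) M (k := 1) (by rw [pow_one]; exact h)
      rw [h1, pow_one, pow_one] at h4
      exact not_dvd_sub_one hn ht hp hnt (by omega) h4
    rw [card_eq N M] at htG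
    rcases ht.dvd_mul.mp htG with h | h
    · exact absurd h htN
    · rcases ht.dvd_mul.mp h with h | h
      · exact h
      · exact absurd h htH
  have hnonab : ¬ ∀ a b : M, a * b = b * a := by
    intro hcommM
    have hsM : s ∣ Nat.card M := hall s hs (by omega) hsn
    let _ : CommGroup M := { (inferInstance : Group M) with mul_comm := hcommM }
    have hprime : (Nat.card M).Prime := IsSimpleGroup.prime_card
    have h1 := (Nat.prime_dvd_prime_iff_eq hp hprime).mp hpM
    have h2 := (Nat.prime_dvd_prime_iff_eq hs hprime).mp hsM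
    omega
  refine ⟨N, hNn, M, ⟨hMn, hsimple, hnonab, ?_, hall⟩⟩
  -- the centralizer
  by_contra hC
  have hCn : (centralizer (M : Set (G ⧸ N))).Normal := Subgroup.normal_centralizer
  have hpC := hquot _ hCn hC
  -- `C ∩ M` is trivial
  have hdisj : Disjoint (centralizer (M : Set (G ⧸ N))) M := by
    rw [disjoint_iff]
    rcases hMmin (centralizer (M : Set (G ⧸ N)) ⊓ M) inferInstance inf_le_right with h1 | h1
    · exact h1
    · exfalso
      apply hnonab
      intro a b
      have hb : (b : G ⧸ N) ∈ centralizer (M : Set (G ⧸ N)) ⊓ M := by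
        rw [h1]
        exact b.2
      apply Subtype.ext
      exact (mem_centralizer_iff.mp (mem_inf.mp hb).1 a a.2)
  have h5 : Nat.card (centralizer (M : Set (G ⧸ N))) * Nat.card M ∣ Nat.card (G ⧸ N) := by
    have h6 : Nat.card (centralizer (M : Set (G ⧸ N))) ∣ Nat.card ((G ⧸ N) ⧸ M) := by
      apply Subgroup.card_dvd_of_injective
        ((QuotientGroup.mk' M).comp (centralizer (M : Set (G ⧸ N))).subtype)
      rw [injective_iff_map_eq_one]
      intro x hx
      have h7 : (x : G ⧸ N) ∈ M := (QuotientGroup.eq_one_iff (x : G ⧸ N)).mp hx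
      have h8 : (x : G ⧸ N) ∈ centralizer (M : Set (G ⧸ N)) ⊓ M := mem_inf.mpr ⟨x.2, h7⟩
      rw [disjoint_iff.mp hdisj] at h8
      exact Subtype.ext (mem_bot.mp h8)
    rw [← Subgroup.index_eq_card] at h6
    rw [← M.index_mul_card]
    exact Nat.mul_dvd_mul_right h6 _
  have h6 : p ^ 2 ∣ Nat.card G := by
    rw [pow_two, ← N.card_mul_index, Subgroup.index_eq_card]
    exact ((Nat.mul_dvd_mul hpC hpM).trans h5).mul_left _
  exact hp2 p hp hnp (by omega) h6

end Cfsg.Agent.H357.Reduce
end

-- part: H357/Large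
section
/-!
# The primes greater than `n / 5` (helper357)

`vt_eq` : for `n ≥ 41` all primes `t > n / 5` divide `|M|` as often as `n!`.
-/

set_option autoImplicit false

namespace Cfsg.Agent.H357.Reduce

open Subgroup Cfsg.Agent.H363.Frat Cfsg.Agent.H363.AltPrimes

theorem factorial_factorization {n t : ℕ} (ht : t.Prime) (h : n < t * t) :
    n.factorial.factorization t = n / t := by
  rw [Nat.factorization_factorial ht (b := 2) (Nat.log_lt_of_lt_pow' (by norm_num) (by rw [pow_two]; exact h))]
  simp

theorem B_dvd_of {n c : ℕ} (hc : c ≠ 0)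
    (h : ∀ t : ℕ, t.Prime → n < 5 * t → t ≤ n → n / t ≤ c.factorization t) : Cheb.B n ∣ c := by
  unfold Cheb.B
  apply Finset.prod_dvd_of_isRelPrime
  · intro a ha b hb hab
    rw [Finset.mem_coe, Finset.mem_filter] at ha hb
    change IsRelPrime (a ^ (n / a)) (b ^ (n / b))
    rw [← Nat.coprime_iff_isRelPrime]
    exact Nat.Coprime.pow _ _ ((Nat.coprime_primes ha.2 hb.2).2 hab)
  · intro t ht
    rw [Finset.mem_filter, Finset.mem_Ioc] at ht
    exact (ht.2.pow_dvd_iff_le_factorization hc).2 (h t ht.2 (by omega) ht.1.2)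

variable {G : Type*} [Group G] [Finite G] {n : ℕ} {N : Subgroup G} [N.Normal] {M : Subgroup (G ⧸ N)}

omit [Finite G] in
theorem Data.card_dvd (_D : Data G n N M) : Nat.card M ∣ Nat.card G := by
  rw [card_eq N M]
  exact (Nat.dvd_mul_right _ _).mul_left _

theorem Data.fact_add (_D : Data G n N M) (t : ℕ) : (Nat.card G).factorization t =
    (Nat.card N).factorization t + ((Nat.card M).factorization t + M.index.factorization t) := by
  rw [card_eq N M, Nat.factorization_mul Nat.card_pos.ne'
    (Nat.mul_ne_zero Nat.card_pos.ne' M.index_ne_zero_of_finite),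
    Nat.factorization_mul Nat.card_pos.ne' M.index_ne_zero_of_finite, Finsupp.add_apply, Finsupp.add_apply]

/-- a large prime divides `|G|` and `|M|` exactly once -/
theorem Data.fact_large (D : Data G n N M) (h : Hyp G n) (hn : 11 ≤ n) {q : ℕ} (hq : q.Prime) (h1 : n < 2 * q)
    (h2 : q ≤ n) : (Nat.card M).factorization q = 1 ∧ (Nat.card N).factorization q = 0 ∧
      M.index.factorization q = 0 := by
  have e1 : (Nat.card G).factorization q = 1 := by
    rw [h.odd q hq (by omega)]
    exact factorization_factorial hq h2 h1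
  have e2 := D.fact_add q
  have e3 : 1 ≤ (Nat.card M).factorization q :=
    (hq.dvd_iff_one_le_factorization Nat.card_pos.ne').mp (D.primes q hq h1 h2)
  omega

theorem Data.dvd_pow_sub_one (D : Data G n N M) (h : Hyp G n) {t q : ℕ} (ht : t.Prime) (hq : q.Prime) (htq : t ≠ q)
    (h1 : n < 2 * q) (h2 : q ≤ n) (h3 : n < t + q) : q ∣ t ^ (Nat.card N).factorization t - 1 := by
  have hidx : q ^ 1 ∣ N.index := by
    rw [pow_one, Subgroup.index_eq_card, ← M.card_mul_index]
    exact (D.primes q hq h1 h2).mul_right _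
  have := pow_dvd_of_normal hq ht (Ne.symm htq) (h.adj q t hq ht (Ne.symm htq) (by omega)) N hidx
  rwa [pow_one] at this

theorem Data.dvd_sub_one (D : Data G n N M) (h : Hyp G n) (hn : 11 ≤ n) {t q : ℕ} (ht : t.Prime) (hq : q.Prime)
    (htq : t ≠ q) (h1 : n < 2 * q) (h2 : q ≤ n) (h3 : n < t + q) (hd : t ∣ M.index) : t ∣ q - 1 := by
  have hN := D.normal
  have h4 := pow_dvd_of_normal ht hq htq ((h.adj t q ht hq htq h3).quotient N) M (k := 1)
    (by rw [pow_one]; exact hd)
  rw [(D.fact_large h hn hq h1 h2).1, pow_one, pow_one] at h4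
  exact h4

/-- `t` odd prime, `n < 5 t`, `2 t ≤ n`, `n ≥ 41`: `t ∤ |N|` -/
theorem Data.fact_N (D : Data G n N M) (h : Hyp G n) (hn : 41 ≤ n) {t : ℕ} (ht : t.Prime) (h5 : n < 5 * t)
    (h2t : 2 * t ≤ n) : (Nat.card N).factorization t = 0 := by
  obtain ⟨r, s, hr, hs, h1, h2, h3⟩ := NT.two_primes hn
  by_contra ha0
  have hnt : n < t * t := by
    have : 5 ≤ t := by omega
    nlinarith only [hn, h5]
  have ha : (Nat.card N).factorization t * t ≤ n := by
    have e1 : (Nat.card N).factorization t ≤ (Nat.card G).factorization t := by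
      have := D.fact_add t
      omega
    rw [h.odd t ht (by omega), factorial_factorization ht hnt] at e1
    calc (Nat.card N).factorization t * t ≤ n / t * t := Nat.mul_le_mul_right t e1
      _ ≤ n := Nat.div_mul_le_self n t
  have hdr := D.dvd_pow_sub_one h ht hr (by omega) (by omega) (by omega) (by omega)
  have hds := D.dvd_pow_sub_one h ht hs (by omega) (by omega) h3 (by omega)
  have hcop : r.Coprime s := (Nat.coprime_primes hr hs).2 (by omega)
  have ht9 : 9 ≤ t := by omega
  generalize (Nat.card N).factorization t = a at *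
  have ha4 : a ≤ 4 := by
    by_contra hlt
    have : 5 * t ≤ a * t := Nat.mul_le_mul_right t (by omega)
    omega
  have hr0 : ¬ r ∣ t - 1 := fun hd => by
    have := Nat.le_of_dvd (by omega) hd
    omega
  have hs0 : ¬ s ∣ t - 1 := fun hd => by
    have := Nat.le_of_dvd (by omega) hd
    omega
  obtain ⟨u, rfl⟩ : ∃ u, t = u + 1 := ⟨t - 1, by omega⟩
  rw [Nat.add_sub_cancel] at hr0 hs0
  interval_cases a
  · exact ha0 rfl
  · rw [pow_one, Nat.add_sub_cancel] at hdr
    exact hr0 hdr
  · have e : (u + 1) ^ 2 - 1 = u * (u + 2) := by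
      have : (u + 1) ^ 2 = u * (u + 2) + 1 := by ring
      omega
    rw [e] at hdr
    have h6 := (hr.dvd_mul.1 hdr).resolve_left hr0
    have := Nat.le_of_dvd (by omega) h6
    omega
  · have e : (u + 1) ^ 3 - 1 = u * (u ^ 2 + 3 * u + 3) := by
      have : (u + 1) ^ 3 = u * (u ^ 2 + 3 * u + 3) + 1 := by ring
      omega
    rw [e] at hdr hds
    have h6 := (hr.dvd_mul.1 hdr).resolve_left hr0
    have h7 := (hs.dvd_mul.1 hds).resolve_left hs0
    have h8 := Nat.le_of_dvd (by (clear * -; positivity)) (hcop.mul_dvd_of_dvd_of_dvd h6 h7)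
    nlinarith only [h1, h2, ha, h8]
  · have e : (u + 1) ^ 4 - 1 = u * ((u + 2) * (u ^ 2 + 2 * u + 2)) := by
      have : (u + 1) ^ 4 = u * ((u + 2) * (u ^ 2 + 2 * u + 2)) + 1 := by ring
      omega
    rw [e] at hdr hds
    have h6 := (hr.dvd_mul.1 hdr).resolve_left hr0
    have h7 := (hs.dvd_mul.1 hds).resolve_left hs0
    have hr2 : ¬ r ∣ u + 2 := fun hd => by
      have := Nat.le_of_dvd (by omega) hd
      omega
    have hs2 : ¬ s ∣ u + 2 := fun hd => by
      have := Nat.le_of_dvd (by omega) hd
      omega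
    have h6' := (hr.dvd_mul.1 h6).resolve_left hr2
    have h7' := (hs.dvd_mul.1 h7).resolve_left hs2
    have h8 := Nat.le_of_dvd (by (clear * -; positivity)) (hcop.mul_dvd_of_dvd_of_dvd h6' h7')
    nlinarith only [h1, h2, ha, h8]

/-- `n < 5 t`, `2 t ≤ n`, `n ≥ 41`: `t ∤ |G/N : M|` -/
theorem Data.not_dvd_index (D : Data G n N M) (h : Hyp G n) (hn : 41 ≤ n) {t : ℕ} (ht : t.Prime) (h5 : n < 5 * t)
    (h2t : 2 * t ≤ n) : ¬ t ∣ M.index := by
  obtain ⟨r, s, hr, hs, h1, h2, h3⟩ := NT.two_primes hn
  intro hd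
  have hdr := D.dvd_sub_one h (by omega) ht hr (by omega) (by omega) (by omega) (by omega) hd
  have hds := D.dvd_sub_one h (by omega) ht hs (by omega) (by omega) h3 (by omega) hd
  obtain ⟨c, hc⟩ := hdr
  obtain ⟨d, hd'⟩ := hds
  obtain ⟨x, hx⟩ := hr.odd_of_ne_two (by omega)
  obtain ⟨y, hy⟩ := hs.odd_of_ne_two (by omega)
  obtain ⟨z, hz⟩ := ht.odd_of_ne_two (by omega)
  have hd5 : d < 5 := by
    by_contra hlt
    have : t * 5 ≤ t * d := Nat.mul_le_mul_left t (by omega)
    omega
  have hcd : c < d := by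
    by_contra hlt
    have : t * d ≤ t * c := Nat.mul_le_mul_left t (by omega)
    omega
  interval_cases d <;> interval_cases c <;> (clear * - h1 h2 h3 hc hx hz hy hd'; omega)

/-- **All primes `t > n / 5` divide `|M|` as often as `n!`.** -/
theorem Data.vt_eq (D : Data G n N M) (h : Hyp G n) (hn : 41 ≤ n) {t : ℕ} (ht : t.Prime) (h5 : n < 5 * t)
    (htn : t ≤ n) : (Nat.card M).factorization t = n / t := by
  have hnt : n < t * t := by
    have : 5 ≤ t := by omega
    nlinarith
  have ht2 : t ≠ 2 := by omega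
  rw [← factorial_factorization ht hnt, ← h.odd t ht ht2, D.fact_add t]
  by_cases h2t : 2 * t ≤ n
  · rw [D.fact_N h hn ht h5 h2t, Nat.factorization_eq_zero_of_not_dvd (D.not_dvd_index h hn ht h5 h2t)]
    omega
  · obtain ⟨e1, e2, e3⟩ := D.fact_large h (by omega) ht (by omega) htn
    omega

/-- `B n` divides `|M|` -/
theorem Data.B_dvd (D : Data G n N M) (h : Hyp G n) (hn : 41 ≤ n) : Cheb.B n ∣ Nat.card M := by
  apply B_dvd_of
  · exact Nat.card_pos.ne'
  · intro t ht h1 h2
    exact (D.vt_eq h hn ht h1 h2).ge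

end Cfsg.Agent.H357.Reduce
end
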