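import Mathlib
import Cfsg.Agent.H357.Large
import Cfsg.Agent.H357.PermOrd
import Cfsg.Agent.H357.Syl
import Cfsg.Agent.StandardComponent.AltAut
import Cfsg.Agent.H357.ChebMid
import Cfsg.Agent.H363.AltPrimes
import Cfsg.Agent.H341.ThreeList_m3
import Cfsg.Agent.H365.Zsig
import Cfsg.Agent.FastGrp
import Cfsg.Agent.Prune
set_option linter.all false

section
prune_inst 0x7ffdfefbbff9bddfffff7e7ffff9dffe3bd4dfffffdffb4bffedebffffffa37f3be5fbaf1de4d8ffcef6e2be38b87853fbffdeffef6bdc7ffffd5ff45ffbee1ff7ffbf8971d79d34cffc6ffffbf17fee7f3fffffffffffffffffffffffffffffffffffffffff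

-- part: H357/Final
section
prune_inst 0x40001c4282000000000b00000100000004800c0100000620b0100300110000240038004000000009001000000000020041180080000320820000a00030000000a801180c00000000000000000000000000000000000000000
set_option linter.all false
open scoped Cfsg.Agent.FastGrp

-- part: H357/Cover
section
/-!
# Centralizers covering the simple section (helper357)
-/

set_option autoImplicit false

namespace Cfsg.Agent.H357.Reduce

open Subgroup Cfsg.Agent.H363.Frat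

/-- a nontrivial normal subgroup contains `M` -/
theorem Data.le_of_normal {G : Type*} [Group G] {n : ℕ} {N : Subgroup G} [N.Normal]
    {M : Subgroup (G ⧸ N)} (D : Data G n N M) {C : Subgroup (G ⧸ N)} (hC : C.Normal) (h1 : C ≠ ⊥) : M ≤ C := by
  have hM := D.normal
  have hs := D.simple
  have hn : (C.subgroupOf M).Normal := hC.subgroupOf M
  rcases hn.eq_bot_or_eq_top with h | h
  · exfalso
    apply h1
    rw [eq_bot_iff, ← D.cent]
    intro c hc
    rw [mem_centralizer_iff]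
    intro m hm
    have h2 : m * c * m⁻¹ * c⁻¹ ∈ C := C.mul_mem (hC.conj_mem c hc m) (C.inv_mem hc)
    have h3 : m * c * m⁻¹ * c⁻¹ ∈ M := by
      have : m * c * m⁻¹ * c⁻¹ = m * (c * m⁻¹ * c⁻¹) := by group
      rw [this]
      exact M.mul_mem hm (hM.conj_mem _ (M.inv_mem hm) c)
    have h4 : (⟨_, h3⟩ : M) ∈ C.subgroupOf M := mem_subgroupOf.mpr h2
    rw [h, mem_bot] at h4
    have h5 : m * c * m⁻¹ * c⁻¹ = 1 := congrArg Subtype.val h4
    calc m * c = m * c * m⁻¹ * c⁻¹ * (c * m) := by group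
      _ = c * m := by rw [h5, one_mul]
  · exact subgroupOf_eq_top.mp h

/-- the centralizer of `S` covers `M` as soon as it is not contained in `N`, if the normalizer covers `G / N` -/
theorem Data.le_map_centralizer {G : Type*} [Group G] {n : ℕ} {N : Subgroup G} [N.Normal]
    {M : Subgroup (G ⧸ N)} (D : Data G n N M) {S : Subgroup G} (hS : normalizer (S : Set G) ⊔ N = ⊤) {x : G}
    (hx : x ∈ centralizer (S : Set G)) (hxN : x ∉ N) :
    M ≤ (centralizer (S : Set G)).map (QuotientGroup.mk' N) := by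
  apply D.le_of_normal
  · constructor
    intro y hy g
    obtain ⟨c, hc, rfl⟩ := hy
    obtain ⟨g', rfl⟩ := QuotientGroup.mk'_surjective N g
    have hg : g' ∈ normalizer (S : Set G) ⊔ N := by rw [hS]; exact mem_top _
    rw [sup_comm] at hg
    obtain ⟨a, ha, b, hb, rfl⟩ := mem_sup_of_normal_left.mp hg
    have ha1 : QuotientGroup.mk' N a = 1 := (QuotientGroup.eq_one_iff a).mpr ha
    refine ⟨b * c * b⁻¹, ?_, ?_⟩
    · -- the centralizer is normalised by the normalizer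
      rw [SetLike.mem_coe, mem_centralizer_iff]
      intro s hs
      have h1 : b⁻¹ * s * b ∈ S := by
        have := (mem_normalizer_iff.mp ((normalizer (S : Set G)).inv_mem hb) s).mp hs
        simpa using this
      have h2 := mem_centralizer_iff.mp hc _ h1
      calc s * (b * c * b⁻¹) = b * ((b⁻¹ * s * b) * c) * b⁻¹ := by group
        _ = b * (c * (b⁻¹ * s * b)) * b⁻¹ := by rw [h2]
        _ = b * c * b⁻¹ * s := by group
    · rw [map_mul, map_mul, map_inv, map_mul, ha1, one_mul]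
  · intro h
    apply hxN
    have h1 : QuotientGroup.mk' N x ∈ (centralizer (S : Set G)).map (QuotientGroup.mk' N) := ⟨x, hx, rfl⟩
    rw [h, mem_bot] at h1
    exact (QuotientGroup.eq_one_iff x).mp h1

/-- `t ∤ |P|`-part: an element whose order is divisible by `t` and by the primes of `P` -/
theorem exists_order {G : Type*} [Group G] [Finite G] {N : Subgroup G} [N.Normal]
    {t : ℕ} (ht : t.Prime) {z c : G} (hz : orderOf z = t) (hcz : c * z = z * c) {P : Finset ℕ}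
    (hP : ∀ p ∈ P, p.Prime ∧ p ≠ t) (ho : orderOf (QuotientGroup.mk' N c) = ∏ p ∈ P, p) :
    ∃ g : G, ∀ p ∈ insert t P, p.Prime ∧ p ∣ orderOf g := by
  have hco : ∏ p ∈ P, p ∣ orderOf c := by
    rw [← ho]
    exact orderOf_map_dvd _ c
  obtain ⟨j, w, hw, hcw⟩ := Nat.exists_eq_pow_mul_and_not_dvd (orderOf_pos c).ne' t ht.ne_one
  have hc' : orderOf (c ^ t ^ j) = w := by
    rw [orderOf_pow' c (pow_pos ht.pos j).ne', hcw, Nat.gcd_eq_right (Dvd.intro _ rfl),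
      Nat.mul_div_cancel_left _ (pow_pos ht.pos j)]
  have hcop : (orderOf (c ^ t ^ j)).Coprime (orderOf z) := by
    rw [hc', hz, Nat.coprime_comm]
    exact (ht.coprime_iff_not_dvd).2 hw
  have hcomm : Commute (c ^ t ^ j) z := Commute.pow_left hcz _
  refine ⟨c ^ t ^ j * z, fun p hp => ?_⟩
  rw [hcomm.orderOf_mul_eq_mul_orderOf_of_coprime hcop, hc', hz]
  rcases Finset.mem_insert.mp hp with rfl | hp
  · exact ⟨ht, Nat.dvd_mul_left _ _⟩
  · obtain ⟨h1, h2⟩ := hP p hp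
    refine ⟨h1, ?_⟩
    apply Dvd.dvd.mul_right
    have h3 : p ∣ t ^ j * w := by
      rw [← hcw]
      exact (Finset.dvd_prod_of_mem (fun p : ℕ => p) hp).trans hco
    rcases h1.dvd_mul.mp h3 with h4 | h4
    · exact absurd ((Nat.prime_dvd_prime_iff_eq h1 ht).mp (h1.dvd_of_dvd_pow h4)) h2
    · exact h4

/-- the sum of the primes is at most `n` -/
theorem sum_le {G : Type*} [Group G] [Finite G] {n : ℕ} {N : Subgroup G} [N.Normal]
    {M : Subgroup (G ⧸ N)} (hspec : ∀ g : G, orderOf g ∈ Set.range (orderOf : Equiv.Perm (Fin n) → ℕ))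
    {m t : ℕ} (e : M ≃* alternatingGroup (Fin m)) (ht : t.Prime) {z : G} (hz : orderOf z = t)
    (hM : M ≤ (centralizer ({z} : Set G)).map (QuotientGroup.mk' N)) {P : Finset ℕ}
    (hP : ∀ p ∈ P, p.Prime ∧ p ≠ 2 ∧ p ≠ t) (hs : ∑ p ∈ P, p ≤ m) : t + ∑ p ∈ P, p ≤ n := by
  obtain ⟨y, hy⟩ := PermOrd.exists_order_prod (fun p hp => ⟨(hP p hp).1, (hP p hp).2.1⟩) hs
  have h1 : orderOf ((e.symm y : M) : G ⧸ N) = ∏ p ∈ P, p := by
    rw [Subgroup.orderOf_coe, ← hy]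
    exact e.symm.orderOf_eq y
  obtain ⟨c, hc, hcy⟩ := hM (e.symm y).2
  have hcz : c * z = z * c := (mem_centralizer_iff.mp hc z rfl).symm
  obtain ⟨g, hg⟩ := exists_order (N := N) ht hz hcz (P := P) (fun p hp => ⟨(hP p hp).1, (hP p hp).2.2⟩)
    (by rw [hcy, h1])
  obtain ⟨σ, hσ⟩ := hspec g
  have h2 := PermOrd.sum_le_of_dvd_order σ (P := insert t P) (fun p hp => by rw [hσ]; exact hg p hp)
  rwa [Finset.sum_insert (fun h => (hP t h).2.2 rfl)] at h2

end Cfsg.Agent.H357.Reduce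
end

-- part: H357/Centr
section
/-!
# Coprime elements centralizing small `t`-groups (helper357)
-/

set_option autoImplicit false

namespace Cfsg.Agent.H357.Reduce

open Subgroup Cfsg.Agent.H363.Frat

theorem exists_centralizing {G : Type*} [Group G] [Finite G] {q t a : ℕ} (hq : q.Prime) (ht : t.Prime)
    (htq : t ≠ q) {S Q : Subgroup G} (hqQ : q ∣ Nat.card Q) (hcard : Nat.card S = t ^ a)
    (hQS : Q ≤ normalizer (S : Set G)) (hno : ∀ c, 1 ≤ c → c ≤ a → ¬ q ∣ t ^ c - 1) :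
    ∃ x ∈ centralizer (S : Set G), orderOf x = q := by
  have : Fact q.Prime := ⟨hq⟩
  obtain ⟨x, hx⟩ := exists_prime_orderOf_dvd_card' q hqQ
  have hx' : orderOf (x : G) = q := by rw [Subgroup.orderOf_coe, hx]
  refine ⟨x, ?_, hx'⟩
  have hxn : (x : G) ∈ normalizer (S : Set G) := hQS x.2
  have hA : IsPGroup q (zpowers (x : G)) := by
    apply IsPGroup.of_card (n := 1)
    rw [Nat.card_zpowers, hx', pow_one]
  have hn : ∀ a : zpowers (x : G), ∀ v ∈ S, (a : G) * v * (a : G)⁻¹ ∈ S := fun a v hv =>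
    (mem_normalizer_iff.mp ((zpowers_le.mpr hxn) a.2) v).mp hv
  let _act : MulAction (zpowers (x : G)) S :=
    { smul := fun a y => ⟨(a : G) * y.1 * (a : G)⁻¹, hn a _ y.2⟩
      one_smul := fun y => by
        apply Subtype.ext
        change ((1 : zpowers (x : G)) : G) * y.1 * ((1 : zpowers (x : G)) : G)⁻¹ = y.1
        simp only [_root_.OneMemClass.coe_one, _root_.one_mul, _root_.inv_one, _root_.mul_one]
      mul_smul := fun a b y => by
        apply Subtype.ext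
        change ((a * b : zpowers (x : G)) : G) * y.1 * ((a * b : zpowers (x : G)) : G)⁻¹
          = (a : G) * ((b : G) * y.1 * (b : G)⁻¹) * (a : G)⁻¹
        rw [Subgroup.coe_mul]; group }
  have h1 := hA.card_modEq_card_fixedPoints S
  -- the fixed points
  set F : Subgroup G := S ⊓ centralizer ({(x : G)} : Set G) with hF
  have h2 : Nat.card (MulAction.fixedPoints (zpowers (x : G)) S) = Nat.card F := by
    apply Nat.card_congr
    refine ⟨fun y => ⟨y.1.1, mem_inf.mpr ⟨y.1.2, ?_⟩⟩, fun y => ⟨⟨y.1, (mem_inf.mp y.2).1⟩, ?_⟩, fun _ => rfl, fun _ => rfl⟩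
    · rw [mem_centralizer_iff]
      rintro _ rfl
      have h3 := congrArg Subtype.val (y.2 ⟨x, mem_zpowers _⟩)
      change (x : G) * y.1.1 * (x : G)⁻¹ = y.1.1 at h3
      calc (x : G) * y.1.1 = ((x : G) * y.1.1 * (x : G)⁻¹) * x := by group
        _ = y.1.1 * x := by rw [h3]
    · rintro ⟨a, ha⟩
      apply Subtype.ext
      change a * y.1 * a⁻¹ = y.1
      have h3 : Commute (x : G) y.1 := mem_centralizer_iff.mp (mem_inf.mp y.2).2 _ rfl
      obtain ⟨k, rfl⟩ := mem_zpowers_iff.mp ha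
      have h4 : (x : G) ^ k * y.1 = y.1 * (x : G) ^ k := (h3.zpow_left k).eq
      rw [h4]
      group
  rw [h2, hcard] at h1
  have hFS : Nat.card F ∣ t ^ a := by
    rw [← hcard]
    exact Subgroup.card_dvd_of_le inf_le_left
  obtain ⟨b, hb, hFb⟩ := (Nat.dvd_prime_pow ht).mp hFS
  rw [hFb] at h1
  rcases Nat.lt_or_ge b a with hlt | hge
  · exfalso
    have h3 : q ∣ t ^ a - t ^ b := (Nat.modEq_iff_dvd' (Nat.pow_le_pow_right ht.pos hb)).mp h1.symm
    have h4 : t ^ a - t ^ b = t ^ b * (t ^ (a - b) - 1) := by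
      rw [Nat.mul_sub, mul_one, ← pow_add, Nat.add_sub_cancel' hb]
    rw [h4] at h3
    rcases hq.dvd_mul.mp h3 with h5 | h5
    · exact htq ((Nat.prime_dvd_prime_iff_eq hq ht).mp (hq.dvd_of_dvd_pow h5)).symm
    · exact hno (a - b) (by omega) (by omega) h5
  · have hba : b = a := by omega
    have h3 : F = S := by
      apply Subgroup.eq_of_le_of_card_ge inf_le_left
      rw [hcard, hFb, hba]
    rw [mem_centralizer_iff]
    intro s hs
    have h4 : s ∈ F := by rw [h3]; exact hs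
    exact (mem_centralizer_iff.mp (mem_inf.mp h4).2 _ rfl).symm

/-- `t ^ c - 1` is not divisible by a prime `q > n / 2` if `t` is odd and `t ^ c ≤ n` -/
theorem not_dvd_odd {n q t c : ℕ} (hq : q.Prime) (ht : t.Prime) (ht2 : t ≠ 2) (hc : 1 ≤ c) (h : t ^ c ≤ n)
    (hqn : n < 2 * q) (hn : 11 ≤ n) : ¬ q ∣ t ^ c - 1 := by
  rintro ⟨d, hd⟩
  have h1 : t ≤ t ^ c := Nat.le_self_pow (by omega) t
  have h2 := ht.two_le
  have hd2 : d < 2 := by
    by_contra hlt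
    have : q * 2 ≤ q * d := Nat.mul_le_mul_left q (by omega)
    omega
  have hd0 : d ≠ 0 := by
    rintro rfl
    omega
  have hd1 : d = 1 := by omega
  subst hd1
  obtain ⟨x, hx⟩ := (ht.odd_of_ne_two ht2).pow (n := c)
  obtain ⟨y, hy⟩ := hq.odd_of_ne_two (by omega)
  omega

end Cfsg.Agent.H357.Reduce
end

-- part: H357/Final
section
/-!
# The degree (helper357)

`final` : if the simple section is alternating of degree `m` then `m = n` and `G` is `A_n` or `S_n`.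
-/

set_option autoImplicit false

namespace Cfsg.Agent.H357.Reduce

open Subgroup Cfsg.Agent.H363.Frat

/-! ### arithmetic -/

theorem fact_const {t m : ℕ} : ∀ d : ℕ, (∀ j, m < j → j ≤ m + d → ¬ t ∣ j) →
    (m + d).factorial.factorization t = m.factorial.factorization t := by
  intro d
  induction d with
  | zero => intro _; rfl
  | succ d ih =>
    intro h
    rw [← add_assoc, Nat.factorial_succ, Nat.factorization_mul (by omega) (Nat.factorial_ne_zero _),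
      Finsupp.add_apply, ih (fun j h1 h2 => h j h1 (by omega)),
      Nat.factorization_eq_zero_of_not_dvd (h (m + d + 1) (by omega) (by omega)), zero_add]

/-- `t > n - m` prime dividing `i`, `m < i ≤ n` -/
theorem fact_one {t m n i : ℕ} (h1 : n - m < t) (h2 : m < i) (h3 : i ≤ n) (h4 : t ∣ i) :
    n.factorial.factorization t = i.factorization t + m.factorial.factorization t := by
  have hnd : ∀ j, m < j → j ≤ n → j ≠ i → ¬ t ∣ j := by
    intro j hj1 hj2 hji hd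
    rcases Nat.lt_or_gt_of_ne hji with h | h
    · have := Nat.le_of_dvd (by omega) (Nat.dvd_sub h4 hd)
      omega
    · have := Nat.le_of_dvd (by omega) (Nat.dvd_sub hd h4)
      omega
  obtain ⟨d, rfl⟩ : ∃ d, i = m + d + 1 := ⟨i - m - 1, by omega⟩
  obtain ⟨d', rfl⟩ : ∃ d', n = m + d + 1 + d' := ⟨n - (m + d + 1), by omega⟩
  rw [fact_const d' (fun j hj1 hj2 => hnd j (by omega) hj2 (by omega)), Nat.factorial_succ,
    Nat.factorization_mul (by omega) (Nat.factorial_ne_zero _), Finsupp.add_apply,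
    fact_const d (fun j hj1 hj2 => hnd j hj1 (by omega) (by omega))]

theorem not_dvd_two {n q b c : ℕ} (hn : n = 2 ^ b) (hn13 : 13 ≤ n) (h1 : 2 * n < 3 * q) (h2 : q ≤ n)
    (h3 : q ≠ n - 1) (hc : 1 ≤ c) (hcb : c ≤ b + 1) : ¬ q ∣ 2 ^ c - 1 := by
  rintro ⟨d, hd⟩
  have h4 : 2 ≤ 2 ^ c := by
    calc 2 = 2 ^ 1 := rfl
      _ ≤ 2 ^ c := Nat.pow_le_pow_right (by norm_num) hc
  have h5 : 2 ^ c ≤ 2 * n := by
    rw [hn, ← pow_succ']
    exact Nat.pow_le_pow_right (by norm_num) hcb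
  have hd0 : d ≠ 0 := by
    rintro rfl
    omega
  have hd3 : d < 3 := by
    by_contra hlt
    have : q * 3 ≤ q * d := Nat.mul_le_mul_left q (by omega)
    omega
  have hcpos : 2 ^ c = 2 * 2 ^ (c - 1) := by
    rw [← pow_succ', Nat.sub_add_cancel hc]
  have hd1 : d = 1 := by
    have : d ≠ 2 := by
      rintro rfl
      omega
    omega
  subst hd1
  rw [mul_one] at hd
  -- `2 ^ c = q + 1`, `n / 2 < q ≤ n`
  have h6 : 2 ^ c ≤ 2 ^ b := by
    apply Nat.pow_le_pow_right (by norm_num)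
    by_contra hlt
    have hcb' : c = b + 1 := by omega
    rw [hcb', pow_succ', ← hn] at hd
    omega
  have h7 : 2 ^ b < 2 ^ (c + 1) := by
    rw [pow_succ, ← hn]
    omega
  have h8 := (Nat.pow_le_pow_iff_right (by norm_num : 1 < 2)).1 h6
  have h9 := (Nat.pow_lt_pow_iff_right (by norm_num : 1 < 2)).1 h7
  have h10 : c = b := by omega
  rw [h10, ← hn] at hd
  omega

theorem exists_q {n b : ℕ} (hn : n = 2 ^ b) (hn13 : 13 ≤ n) :
    ∃ q : ℕ, q.Prime ∧ 2 * n < 3 * q ∧ q ≤ n ∧ q ≠ n - 1 := by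
  rcases Nat.lt_or_ge n 41 with h | h
  · have hb : b < 6 := by
      by_contra hlt
      have : 2 ^ 6 ≤ 2 ^ b := Nat.pow_le_pow_right (by norm_num) (by omega)
      omega
    interval_cases b
    · omega
    · omega
    · omega
    · omega
    · exact ⟨13, by norm_num, by omega, by omega, by omega⟩
    · exact ⟨29, by norm_num, by omega, by omega, by omega⟩
  · obtain ⟨r, s, hr, hs, h1, h2, h3⟩ := NT.two_primes h
    refine ⟨r, hr, by omega, by omega, ?_⟩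
    intro hrn
    obtain ⟨x, hx⟩ := hr.odd_of_ne_two (by omega)
    obtain ⟨y, hy⟩ := hs.odd_of_ne_two (by omega)
    omega

theorem rep_two {n : ℕ} (hn : 13 ≤ n) : NT.Rep n 2 := by
  rcases Nat.lt_or_ge n 28 with h | h
  · have key : ∀ l : List ℕ, NT.incP 0 l = true → l.sum = n → 2 ∉ l → NT.Rep n 2 := fun l h1 h2 h3 =>
      NT.rep_of_list h1 h2 h3
    interval_cases n
    · exact key [13] (by decide) rfl (by decide)
    · exact key [3, 11] (by decide) rfl (by decide)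
    · exact key [3, 5, 7] (by decide) rfl (by decide)
    · exact key [3, 13] (by decide) rfl (by decide)
    · exact key [17] (by decide) rfl (by decide)
    · exact key [5, 13] (by decide) rfl (by decide)
    · exact key [19] (by decide) rfl (by decide)
    · exact key [3, 17] (by decide) rfl (by decide)
    · exact key [3, 5, 13] (by decide) rfl (by decide)
    · exact key [3, 19] (by decide) rfl (by decide)
    · exact key [23] (by decide) rfl (by decide)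
    · exact key [5, 19] (by decide) rfl (by decide)
    · exact key [3, 5, 17] (by decide) rfl (by decide)
    · exact key [3, 23] (by decide) rfl (by decide)
    · exact key [3, 7, 17] (by decide) rfl (by decide)
  · exact NT.exists_rep h 2

/-! ### groups -/

/-- **Frattini** with the normalizer -/
theorem exists_normalizing' {G : Type*} [Group G] [Finite G] {p s : ℕ} (hp : p.Prime) (hs : s.Prime)
    (N : Subgroup G) [N.Normal] (hk : p ∣ N.index) :
    ∃ S Q : Subgroup G, S ≤ N ∧ normalizer (S : Set G) ⊔ N = ⊤ ∧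
      Nat.card S = s ^ (Nat.card N).factorization s ∧ p ∣ Nat.card Q ∧ Q ≤ normalizer (S : Set G) := by
  have : Fact p.Prime := ⟨hp⟩
  have : Fact s.Prime := ⟨hs⟩
  let P : Sylow s N := default
  have hSN : (P : Subgroup N).map N.subtype ≤ N := by
    rintro _ ⟨x, _, rfl⟩
    exact x.2
  have hcard : Nat.card ((P : Subgroup N).map N.subtype) = s ^ (Nat.card N).factorization s := by
    rw [Nat.card_congr ((P : Subgroup N).equivMapOfInjective N.subtype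
      N.subtype_injective).symm.toEquiv]
    exact P.card_eq_multiplicity
  have hfrat : normalizer (((P : Subgroup N).map N.subtype : Subgroup G) : Set G) ⊔ N = ⊤ :=
    Sylow.normalizer_sup_eq_top P
  refine ⟨(P : Subgroup N).map N.subtype, normalizer (((P : Subgroup N).map N.subtype : Subgroup G) : Set G),
    hSN, hfrat, hcard, ?_, le_rfl⟩
  have h1 : N.relIndex (normalizer (((P : Subgroup N).map N.subtype : Subgroup G) : Set G)) = N.index := by
    rw [← relIndex_sup_right, hfrat, relIndex_top_right]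
  have h2 := relIndex_dvd_card N (normalizer (((P : Subgroup N).map N.subtype : Subgroup G) : Set G))
  rw [h1] at h2
  exact hk.trans h2

/-- `G / N` acts faithfully on `m` letters -/
theorem Data.exists_hom {G : Type*} [Group G] [Finite G] {n : ℕ} {N : Subgroup G} [N.Normal]
    {M : Subgroup (G ⧸ N)} (D : Data G n N M) {m : ℕ} (hm : 7 ≤ m) (e : M ≃* alternatingGroup (Fin m)) :
    ∃ Θ : (G ⧸ N) →* Equiv.Perm (Fin m), Function.Injective Θ := by
  obtain ⟨ψ, hψ⟩ := Cfsg.Agent.StandardComponent.AltAut.exists_autHom m hm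
  have hM := D.normal
  refine ⟨ψ.comp ((MulAut.congr e).toMonoidHom.comp (MulAut.conjNormal : (G ⧸ N) →* MulAut M)), ?_⟩
  rw [injective_iff_map_eq_one]
  intro x hx
  have h1 : (MulAut.congr e) (MulAut.conjNormal x) = 1 := by
    ext y : 2
    rw [hψ]
    have hx' : ψ ((MulAut.congr e) (MulAut.conjNormal x)) = 1 := hx
    rw [hx']
    simp
  have h2 : (MulAut.conjNormal x : MulAut M) = 1 := (MulAut.congr e).injective (by rw [h1, map_one])
  have h3 : x ∈ centralizer (M : Set (G ⧸ N)) := by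
    rw [mem_centralizer_iff]
    intro y hy
    have h4 := congrArg (fun f : MulAut M => ((f ⟨y, hy⟩ : M) : G ⧸ N)) h2
    simp only [MulAut.conjNormal_apply, MulAut.one_apply] at h4
    calc y * x = x * y * x⁻¹ * x := by rw [h4]
      _ = x * y := by group
  rw [D.cent, mem_bot] at h3
  exact h3

/-- the hypotheses of the theorem -/
structure Same (G : Type*) [Group G] (n : ℕ) : Prop where
  card : Nat.card G = n.factorial ∨ 2 * Nat.card G = n.factorial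
  spec : ∀ g : G, orderOf g ∈ Set.range (orderOf : Equiv.Perm (Fin n) → ℕ)

theorem Same.hyp {G : Type*} [Group G] [Finite G] {n : ℕ} (h : Same G n) : Hyp G n where
  dvd := by
    rcases h.card with h1 | h1
    · rw [h1]
    · rw [← h1]
      exact Nat.dvd_mul_left _ _
  odd := by
    intro p hp hp2
    rcases h.card with h1 | h1
    · rw [h1]
    · rw [← h1, Nat.factorization_mul (by norm_num) Nat.card_pos.ne', Finsupp.add_apply,
        Nat.Prime.factorization Nat.prime_two, Finsupp.single_apply, if_neg (Ne.symm hp2), zero_add]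
  adj := by
    intro r t hr ht hrt hlt g hg
    obtain ⟨σ, hσ⟩ := h.spec g
    exact PermOrd.nonAdj hr ht hrt hlt σ (hσ.trans hg)

/-- the sum of the primes, with a subgroup `S` -/
theorem Data.false_of_centralizing {G : Type*} [Group G] [Finite G] {n : ℕ} {N : Subgroup G} [N.Normal]
    {M : Subgroup (G ⧸ N)} (D : Data G n N M) (hs : Same G n) {m : ℕ} (e : M ≃* alternatingGroup (Fin m))
    {S : Subgroup G} (hS : normalizer (S : Set G) ⊔ N = ⊤) {x : G} (hx : x ∈ centralizer (S : Set G)) (hxN : x ∉ N)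
    {t : ℕ} (ht : t.Prime) (htS : t ∣ Nat.card S) {P : Finset ℕ} (hP : ∀ p ∈ P, p.Prime ∧ p ≠ 2 ∧ p ≠ t)
    (hsum : ∑ p ∈ P, p ≤ m) (hlt : n < t + ∑ p ∈ P, p) : False := by
  have : Fact t.Prime := ⟨ht⟩
  obtain ⟨z, hz⟩ := exists_prime_orderOf_dvd_card' t htS
  have hM := D.le_map_centralizer hS hx hxN
  have hM' : M ≤ (centralizer ({(z : G)} : Set G)).map (QuotientGroup.mk' N) := by
    refine hM.trans (Subgroup.map_mono ?_)
    apply centralizer_le
    rintro _ rfl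
    exact z.2
  have := sum_le hs.spec e ht (z := (z : G)) (by rw [Subgroup.orderOf_coe, hz]) hM' hP hsum
  omega

/-- the case `m < n` -/
theorem Data.false_of_lt {G : Type*} [Group G] [Finite G] {n : ℕ} {N : Subgroup G} [N.Normal]
    {M : Subgroup (G ⧸ N)} (D : Data G n N M) (hs : Same G n) (hn : 13 ≤ n) {m : ℕ}
    (e : M ≃* alternatingGroup (Fin m)) (hm : 2 * Nat.card M = m.factorial) (hmn : m < n)
    (hgap : ∀ p : ℕ, p.Prime → p ≤ n → p ≤ m) (hidx : M.index ∣ 2) : False := by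
  have h := hs.hyp
  obtain ⟨t, i, P, ht, ht2, h1, h2, h3, h4, hP, hsum, hlt⟩ := NT.exists_num hn hmn hgap
  have hcardG := card_eq N M
  -- the case distinction
  have main : ∀ q : ℕ, q.Prime → n < 2 * q → q ≤ n → 1 ≤ (Nat.card N).factorization t →
      (∀ c, 1 ≤ c → c ≤ (Nat.card N).factorization t → ¬ q ∣ t ^ c - 1) → False := by
    intro q hq hq1 hq2 ha hno
    have htq : t ≠ q := by
      rintro rfl
      obtain ⟨d, rfl⟩ := h4
      have hd2 : d < 2 := by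
        by_contra hc
        have : t * 2 ≤ t * d := Nat.mul_le_mul_left t (by omega)
        omega
      have := hgap t ht hq2
      interval_cases d <;> omega
    have hqM := D.primes q hq hq1 hq2
    have hqN : q ∣ N.index := by
      rw [Subgroup.index_eq_card, ← M.card_mul_index]
      exact hqM.mul_right _
    obtain ⟨S, Q, hSN, hfrat, hcard, hqQ, hQS⟩ := exists_normalizing' hq ht N hqN
    obtain ⟨x, hx, hxo⟩ := exists_centralizing hq ht htq hqQ hcard hQS hno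
    have hxN : x ∉ N := by
      intro hxN
      have h5 : orderOf (⟨x, hxN⟩ : N) ∣ Nat.card N := _root_.orderOf_dvd_natCard _
      rw [← Subgroup.orderOf_coe] at h5
      change orderOf x ∣ _ at h5
      rw [hxo] at h5
      have h6 := (D.fact_large h (by omega) hq hq1 hq2).2.1
      have h7 := (hq.dvd_iff_one_le_factorization Nat.card_pos.ne').mp h5
      omega
    refine D.false_of_centralizing hs e hfrat hx hxN ht ?_ hP hsum hlt
    rw [hcard]
    exact dvd_pow_self t (by omega)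
  by_cases htwo : t = 2
  · subst htwo
    obtain ⟨hnm, b, hb⟩ : n = m + 1 ∧ ∃ a, n = 2 ^ a := by
      rcases ht2 with h5 | h5
      · exact absurd rfl h5
      · exact h5
    have hfac : n.factorial = n * (2 * Nat.card M) := by
      rw [hm, hnm, Nat.factorial_succ]
    have hMpos : 0 < Nat.card M := Nat.card_pos
    have hNi : Nat.card N * M.index = 2 * n ∨ Nat.card N * M.index = n := by
      rcases hs.card with h5 | h5
      · left
        rw [hfac, hcardG] at h5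
        apply Nat.eq_of_mul_eq_mul_right hMpos
        calc Nat.card N * M.index * Nat.card M = Nat.card N * (Nat.card M * M.index) := by ring
          _ = 2 * n * Nat.card M := by rw [h5]; ring
      · right
        rw [hfac, hcardG] at h5
        have h6 : Nat.card N * (Nat.card M * M.index) = n * Nat.card M := by
          apply Nat.eq_of_mul_eq_mul_left (show 0 < 2 by norm_num)
          rw [h5]
          ring
        apply Nat.eq_of_mul_eq_mul_right hMpos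
        calc Nat.card N * M.index * Nat.card M = Nat.card N * (Nat.card M * M.index) := by ring
          _ = n * Nat.card M := h6
    have hb4 : 4 ≤ b := by
      by_contra hlt'
      have : 2 ^ b ≤ 2 ^ 3 := Nat.pow_le_pow_right (by norm_num) (by omega)
      omega
    have hNpow : ∃ a, 1 ≤ a ∧ a ≤ b + 1 ∧ Nat.card N = 2 ^ a := by
      have hidx' : M.index = 1 ∨ M.index = 2 := (Nat.dvd_prime Nat.prime_two).1 hidx
      have e1 : 2 ^ (b + 1) = 2 * n := by rw [hb, pow_succ']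
      have e2 : 2 * 2 ^ (b - 1) = n := by rw [hb, ← pow_succ', Nat.sub_add_cancel (by omega)]
      rcases hidx' with h5 | h5 <;> rcases hNi with h6 | h6 <;> rw [h5] at h6
      · exact ⟨b + 1, by omega, le_rfl, by (clear * - hb h6; omega)⟩
      · exact ⟨b, by omega, by omega, by (clear * - hb h6; omega)⟩
      · exact ⟨b, by omega, by omega, by (clear * - hb h6; omega)⟩
      · exact ⟨b - 1, by omega, by omega, by (clear * - e2 h6; omega)⟩
    obtain ⟨a, ha1, ha2, ha3⟩ := hNpow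
    have hfa : (Nat.card N).factorization 2 = a := by
      rw [ha3, Nat.Prime.factorization_pow Nat.prime_two]
      simp
    obtain ⟨q, hq, hq1, hq2, hq3⟩ := exists_q hb hn
    refine main q hq (by (clear * - hq1; omega)) hq2 (by omega) fun c hc1 hc2 => ?_
    rw [hfa] at hc2
    exact not_dvd_two hb hn hq1 hq2 hq3 hc1 (by omega)
  · have h5 := fact_one h1 h2 h3 h4
    have h6 := h.odd t ht htwo
    have h7 := D.fact_add t
    have h8 : M.index.factorization t = 0 := by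
      apply Nat.factorization_eq_zero_of_not_dvd
      intro hd
      exact htwo ((Nat.prime_dvd_prime_iff_eq ht Nat.prime_two).mp (hd.trans hidx))
    have h9 : m.factorial.factorization t = (Nat.card M).factorization t := by
      rw [← hm, Nat.factorization_mul (by norm_num) Nat.card_pos.ne', Finsupp.add_apply,
        Nat.Prime.factorization Nat.prime_two, Finsupp.single_apply, if_neg (Ne.symm htwo), zero_add]
    have h10 : (Nat.card N).factorization t = i.factorization t := by omega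
    have h11 : 1 ≤ i.factorization t := (ht.dvd_iff_one_le_factorization (by omega)).mp h4
    have h12 : t ^ i.factorization t ≤ n :=
      (Nat.le_of_dvd (by omega) (Nat.ordProj_dvd i t)).trans h3
    obtain ⟨q, s, hq, -, hq1, hq2, hq3⟩ := Cfsg.Agent.H363.TwoPrimes.exists_two_primes' n (by omega)
    refine main q hq hq1 (by omega) (by omega) fun c hc1 hc2 => ?_
    rw [h10] at hc2
    exact not_dvd_odd hq ht htwo hc1 ((Nat.pow_le_pow_right ht.pos hc2).trans h12) hq1 (by omega)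

/-- `N` trivial, `M = G / N` -/
noncomputable def equivOf {G : Type*} [Group G] (N : Subgroup G) [N.Normal] (hN : N = ⊥) : G ≃* G ⧸ N :=
  MulEquiv.ofBijective (QuotientGroup.mk' N) ⟨by
    rw [← MonoidHom.ker_eq_bot_iff, QuotientGroup.ker_mk', hN], QuotientGroup.mk'_surjective N⟩

/-- the case `m = n` -/
theorem Data.final_eq {G : Type*} [Group G] [Finite G] {n : ℕ} {N : Subgroup G} [N.Normal]
    {M : Subgroup (G ⧸ N)} (D : Data G n N M) (hs : Same G n)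
    (e : M ≃* alternatingGroup (Fin n)) (hm : 2 * Nat.card M = n.factorial)
    (hrep : ∃ P : Finset ℕ, (∀ p ∈ P, p.Prime ∧ p ≠ 2) ∧ ∑ p ∈ P, p ≤ n ∧ n < 2 + ∑ p ∈ P, p)
    (hΘ : Nat.card G = n.factorial → ∃ Θ : (G ⧸ N) →* Equiv.Perm (Fin n), Function.Injective Θ) :
    Nonempty (G ≃* Equiv.Perm (Fin n)) ∨ Nonempty (G ≃* alternatingGroup (Fin n)) := by
  have hcardG := card_eq N M
  have hMpos : 0 < Nat.card M := Nat.card_pos
  have hbot : Nat.card N = 1 → N = ⊥ := fun h1 => Subgroup.card_eq_one.mp h1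
  rcases hs.card with h1 | h1
  · left
    obtain ⟨Θ, hΘ⟩ := hΘ h1
    have h2 : Nat.card N * M.index = 2 := by
      rw [hcardG, ← hm] at h1
      apply Nat.eq_of_mul_eq_mul_right hMpos
      rw [← h1]
      ring
    have hidx : M.index ∣ 2 := ⟨Nat.card N, by rw [← h2, mul_comm]⟩
    rcases (Nat.dvd_prime Nat.prime_two).1 hidx with h3 | h3
    · -- `|N| = 2`
      exfalso
      rw [h3, mul_one] at h2
      obtain ⟨P, hP, hsum, hlt⟩ := hrep
      have htop : M = ⊤ := Subgroup.index_eq_one.mp h3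
      -- `N` is central
      have hcent : ∀ z ∈ N, ∀ g : G, g * z = z * g := by
        intro z hz g
        by_cases hz1 : z = 1
        · rw [hz1, mul_one, one_mul]
        · have h4 : g * z * g⁻¹ ∈ N := ‹N.Normal›.conj_mem z hz g
          have h5 : g * z * g⁻¹ ≠ 1 := by
            intro h6
            apply hz1
            have : z = g⁻¹ * (g * z * g⁻¹) * g := by group
            rw [this, h6]
            group
          have h6 : ∀ a ∈ N, a ≠ 1 → a = z := by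
            intro a ha ha1
            by_contra hne
            have h7 : ({1, z, a} : Set G) ⊆ N := by
              rintro y (rfl | rfl | rfl)
              · exact one_mem N
              · exact hz
              · exact ha
            have h8 := Set.ncard_le_ncard h7 (Set.toFinite _)
            rw [Set.ncard_eq_three.mpr ⟨1, z, a, Ne.symm hz1, Ne.symm ha1, Ne.symm hne, rfl⟩] at h8
            have h9 : (N : Set G).ncard = Nat.card N := (Nat.card_coe_set_eq _).symm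
            omega
          have h7 := h6 _ h4 h5
          calc g * z = g * z * g⁻¹ * g := by group
            _ = z * g := by rw [h7]
      have : Fact (Nat.Prime 2) := ⟨Nat.prime_two⟩
      obtain ⟨z, hz⟩ := exists_prime_orderOf_dvd_card' 2 (by rw [h2] : 2 ∣ Nat.card N)
      have hMle : M ≤ (centralizer ({(z : G)} : Set G)).map (QuotientGroup.mk' N) := by
        have h4 : centralizer ({(z : G)} : Set G) = ⊤ := by
          rw [eq_top_iff]
          intro g _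
          rw [mem_centralizer_iff]
          rintro _ rfl
          exact (hcent z z.2 g).symm
        rw [h4, ← MonoidHom.range_eq_map, MonoidHom.range_eq_top.mpr (QuotientGroup.mk'_surjective N)]
        exact le_top
      have h5 := sum_le hs.spec e Nat.prime_two (z := (z : G)) (by rw [Subgroup.orderOf_coe, hz]) hMle
        (P := P) (fun p hp => ⟨(hP p hp).1, (hP p hp).2, (hP p hp).2⟩) hsum
      omega
    · -- `|G / N : M| = 2`
      rw [h3] at h2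
      have hN1 : Nat.card N = 1 := by omega
      have hbij : Function.Bijective Θ := by
        rw [Nat.bijective_iff_injective_and_card]
        refine ⟨hΘ, ?_⟩
        rw [Nat.card_eq_fintype_card (α := Equiv.Perm (Fin n)), Fintype.card_perm, Fintype.card_fin,
          ← M.card_mul_index, h3, ← hm, mul_comm]
      exact ⟨(equivOf N (hbot hN1)).trans (MulEquiv.ofBijective Θ hbij)⟩
  · right
    have h2 : Nat.card N * M.index = 1 := by
      rw [hcardG, ← hm] at h1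
      have h3 := Nat.eq_of_mul_eq_mul_left (show 0 < 2 by norm_num) h1
      apply Nat.eq_of_mul_eq_mul_right hMpos
      calc Nat.card N * M.index * Nat.card M = Nat.card N * (Nat.card M * M.index) := by ring
        _ = 1 * Nat.card M := by rw [h3, one_mul]
    have hN1 : Nat.card N = 1 := Nat.eq_one_of_mul_eq_one_right h2
    have hI1 : M.index = 1 := Nat.eq_one_of_mul_eq_one_left h2
    have htop : M = ⊤ := Subgroup.index_eq_one.mp hI1
    have hsub : Function.Bijective M.subtype := by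
      refine ⟨M.subtype_injective, ?_⟩
      intro x
      exact ⟨⟨x, by rw [htop]; exact mem_top x⟩, rfl⟩
    exact ⟨(equivOf N (hbot hN1)).trans ((MulEquiv.ofBijective M.subtype hsub).symm.trans e)⟩

/-- **The degree** -/
theorem Data.final {G : Type*} [Group G] [Finite G] {n : ℕ} {N : Subgroup G} [N.Normal]
    {M : Subgroup (G ⧸ N)} (D : Data G n N M) (hs : Same G n) (hn : 13 ≤ n) {m : ℕ}
    (e : M ≃* alternatingGroup (Fin m)) (hm : 2 * Nat.card M = m.factorial) :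
    Nonempty (G ≃* Equiv.Perm (Fin n)) ∨ Nonempty (G ≃* alternatingGroup (Fin n)) := by
  have h := hs.hyp
  have hcardG := card_eq N M
  have hMpos : 0 < Nat.card M := Nat.card_pos
  -- `m ≤ n`
  have hmn : m ≤ n := by
    by_contra hlt
    have h1 : (n + 1).factorial ∣ m.factorial := Nat.factorial_dvd_factorial (by omega)
    have h2 : m.factorial ∣ 2 * n.factorial := by
      rw [← hm]
      exact Nat.mul_dvd_mul_left 2 (D.card_dvd.trans h.dvd)
    have h3 : (n + 1) * n.factorial ∣ 2 * n.factorial := by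
      rw [← Nat.factorial_succ]
      exact h1.trans h2
    have h4 := Nat.le_of_dvd (by norm_num) (Nat.dvd_of_mul_dvd_mul_right n.factorial_pos h3)
    omega
  -- no primes between
  have hgap : ∀ p : ℕ, p.Prime → p ≤ n → p ≤ m := by
    have h1 : ∀ p : ℕ, p.Prime → n < 2 * p → p ≤ n → p ≤ m := by
      intro p hp h1 h2
      rw [← hp.dvd_factorial, ← hm]
      exact (D.primes p hp h1 h2).mul_left 2
    intro p hp hpn
    rcases Nat.lt_or_ge n (2 * p) with h2 | h2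
    · exact h1 p hp h2 hpn
    · obtain ⟨q, s, hq, -, hq1, hq2, hq3⟩ := Cfsg.Agent.H363.TwoPrimes.exists_two_primes' n (by omega)
      have := h1 q hq hq1 (by omega)
      omega
  have hm13 : 13 ≤ m := hgap 13 (by norm_num) hn
  obtain ⟨Θ, hΘ⟩ := D.exists_hom (by omega) e
  have hK : Nat.card (G ⧸ N) ∣ m.factorial := by
    have h1 := Subgroup.card_dvd_of_injective Θ hΘ
    rwa [Nat.card_eq_fintype_card (α := Equiv.Perm (Fin m)), Fintype.card_perm, Fintype.card_fin] at h1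
  have hidx : M.index ∣ 2 := by
    rw [← M.card_mul_index, ← hm, mul_comm 2] at hK
    exact Nat.dvd_of_mul_dvd_mul_left hMpos hK
  rcases Nat.lt_or_ge m n with hlt | hge
  · exact (D.false_of_lt hs hn e hm hlt hgap hidx).elim
  · have hmn' : m = n := by omega
    subst hmn'
    obtain ⟨P, hP, hsum⟩ := rep_two hn
    exact D.final_eq hs e hm ⟨P, fun p hp => ⟨(hP p hp).1, (hP p hp).2.1⟩, hsum.le, by omega⟩ fun _ => ⟨Θ, hΘ⟩

end Cfsg.Agent.H357.Reduce
end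
end

-- part: H357/Main
section
prune_inst 0x20104400642200000000000002000000300000000000000020000000010800008000000002000000004410001000000002000000420000000a003000000600000000400002240000000000000000000000000000000000000000000000000000000000000
set_option linter.all false
open scoped Cfsg.Agent.FastGrp

-- part: H357/LieBound
section
/-!
# The order of a group of Lie type does not divide `n!` with all large primes (helper357)
-/

set_option autoImplicit false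

namespace Cfsg.Agent.H357.LieBound

open Cfsg.Agent.H405.Shape Cfsg.Agent.OrdDiv

theorem mul_factorization_lt {r n : ℕ} (hr : r.Prime) (hn : n ≠ 0) :
    (r - 1) * n.factorial.factorization r < n := by
  have : Fact r.Prime := ⟨hr⟩
  have h := sub_one_mul_padicValNat_factorial_lt_of_ne_zero (p := r) hn
  rwa [← Nat.factorization_def _ hr] at h

theorem pow_ten_le {r : ℕ} (hr : 5 ≤ r) : r ^ 10 ≤ 2 ^ (7 * (r - 1)) := by
  induction r, hr using Nat.le_induction with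
  | base => norm_num
  | succ r hr ih =>
    have h1 : (5 * (r + 1)) ^ 10 ≤ (6 * r) ^ 10 := Nat.pow_le_pow_left (by omega) 10
    rw [mul_pow, mul_pow] at h1
    have h2 : (6 : ℕ) ^ 10 ≤ 128 * 5 ^ 10 := by norm_num
    have h3 : 5 ^ 10 * (r + 1) ^ 10 ≤ 5 ^ 10 * (128 * r ^ 10) := by
      calc 5 ^ 10 * (r + 1) ^ 10 ≤ 6 ^ 10 * r ^ 10 := h1
        _ ≤ 128 * 5 ^ 10 * r ^ 10 := Nat.mul_le_mul_right _ h2
        _ = 5 ^ 10 * (128 * r ^ 10) := by ring
    have h4 := Nat.le_of_mul_le_mul_left h3 (by norm_num)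
    calc (r + 1) ^ 10 ≤ 128 * r ^ 10 := h4
      _ ≤ 2 ^ 7 * 2 ^ (7 * (r - 1)) := Nat.mul_le_mul (by norm_num) ih
      _ = 2 ^ (7 * (r + 1 - 1)) := by rw [← pow_add]; congr 1; omega

theorem pow_fifteen_lt {r : ℕ} (hr : 5 ≤ r) : r ^ 15 < 2 ^ (7 * r) := by
  induction r, hr using Nat.le_induction with
  | base => norm_num
  | succ r hr ih =>
    have h1 : (5 * (r + 1)) ^ 15 ≤ (6 * r) ^ 15 := Nat.pow_le_pow_left (by omega) 15
    rw [mul_pow, mul_pow] at h1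
    have h2 : (6 : ℕ) ^ 15 ≤ 128 * 5 ^ 15 := by norm_num
    have h3 : 5 ^ 15 * (r + 1) ^ 15 ≤ 5 ^ 15 * (128 * r ^ 15) := by
      calc 5 ^ 15 * (r + 1) ^ 15 ≤ 6 ^ 15 * r ^ 15 := h1
        _ ≤ 128 * 5 ^ 15 * r ^ 15 := Nat.mul_le_mul_right _ h2
        _ = 5 ^ 15 * (128 * r ^ 15) := by ring
    have h4 := Nat.le_of_mul_le_mul_left h3 (by norm_num)
    calc (r + 1) ^ 15 ≤ 128 * r ^ 15 := h4
      _ < 2 ^ 7 * 2 ^ (7 * r) := by
        have : (128 : ℕ) = 2 ^ 7 := by norm_num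
        rw [this]
        exact Nat.mul_lt_mul_of_pos_left ih (by positivity)
      _ = 2 ^ (7 * (r + 1)) := by rw [← pow_add]; congr 1; omega

theorem coprime_B {n r : ℕ} (hr : r.Prime) (h : 5 * r ≤ n) : (Cheb.B n).Coprime r := by
  unfold Cheb.B
  apply Nat.Coprime.prod_left
  intro t ht
  rw [Finset.mem_filter, Finset.mem_Ioc] at ht
  apply Nat.Coprime.pow_left
  rw [Nat.coprime_primes ht.2 hr]
  omega

/-- the size argument -/
theorem lie_core {n c r f N l R den : ℕ} (hn : 41 ≤ n) (hr : r.Prime) (hf : 1 ≤ f) (hlN : l ≤ N)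
    (h : LieOrd den N R (r ^ f) c) (hlt : R ≤ den * (r ^ f) ^ (N + l)) (hc : c ∣ n.factorial)
    (hB : Cheb.B n ∣ c) :
    (r = 2 ∧ 2 * N < 5 * l ∧ 7 * n ≤ 5 * (f * (N + l))) ∨
      (r = 3 ∧ 2 * N < 3 * l ∧ 2 ^ (7 * n) ≤ 3 ^ (5 * (f * (N + l)))) := by
  obtain ⟨_, hcop, heq⟩ := h
  have hc0 : c ≠ 0 := fun h0 => by
    rw [h0] at hc
    exact n.factorial_ne_zero (Nat.eq_zero_of_zero_dvd hc)
  have hden0 : 0 < den := by
    rcases Nat.eq_zero_or_pos den with h0 | h0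
    · rw [h0, Nat.coprime_zero_left] at hcop
      have : 2 ^ 1 ≤ r ^ f := (Nat.pow_le_pow_left hr.two_le 1).trans (Nat.pow_le_pow_right hr.pos hf)
      omega
    · exact h0
  have hqN : (r ^ f) ^ N ∣ c := by
    have h1 : (r ^ f) ^ N ∣ den * c := by rw [heq]; exact Nat.dvd_mul_right _ _
    exact (Nat.Coprime.pow_left N hcop.symm).dvd_of_dvd_mul_left h1
  obtain ⟨c', hc'⟩ := hqN
  have hden : den * c' = R := by
    rw [hc'] at heq
    have h1 : (r ^ f) ^ N * (den * c') = (r ^ f) ^ N * R := by rw [← heq]; ring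
    exact Nat.eq_of_mul_eq_mul_left (pow_pos (pow_pos hr.pos _) _) h1
  have hc'le : c' ≤ (r ^ f) ^ (N + l) := by
    rw [← hden] at hlt
    exact Nat.le_of_mul_le_mul_left hlt hden0
  rw [← pow_mul] at hc'le
  -- the exponent of `r`
  have hexp : f * N ≤ n.factorial.factorization r := by
    rw [← hr.pow_dvd_iff_le_factorization n.factorial_ne_zero, pow_mul]
    exact (Dvd.intro _ hc'.symm).trans hc
  have hfac := mul_factorization_lt hr (n := n) (by omega)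
  have hfN : (r - 1) * (f * N) < n := lt_of_le_of_lt (Nat.mul_le_mul_left _ hexp) hfac
  have hBn := Cheb.two_pow_le_B (n := n) (by omega)
  rcases Nat.lt_or_ge n (5 * r) with h5 | h5
  · -- `r > n / 5`
    exfalso
    have hr5 : 5 ≤ r := by omega
    have hnr : n < r * r := by nlinarith only [hn, h5]
    have hv : n.factorial.factorization r = n / r := by
      rw [Nat.factorization_factorial hr (b := 2) (Nat.log_lt_of_lt_pow' (by norm_num) (by rw [pow_two]; exact hnr))]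
      simp
    rw [hv] at hexp
    have hc0' : 0 < c := Nat.pos_of_ne_zero hc0
    have h1 : c ≤ r ^ (3 * (n / r)) := by
      rw [hc']
      calc (r ^ f) ^ N * c' ≤ (r ^ f) ^ N * r ^ (f * (N + l)) := Nat.mul_le_mul_left _ hc'le
        _ = r ^ (f * N + f * (N + l)) := by rw [← pow_mul, ← pow_add]
        _ ≤ r ^ (3 * (n / r)) := by
          apply Nat.pow_le_pow_right hr.pos
          have : f * (N + l) ≤ 2 * (f * N) := by nlinarith only [hlN]
          omega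
    have h2 : 2 ^ (7 * n) ≤ r ^ (15 * (n / r)) := by
      calc 2 ^ (7 * n) ≤ (Cheb.B n) ^ 5 := hBn
        _ ≤ c ^ 5 := Nat.pow_le_pow_left (Nat.le_of_dvd hc0' hB) 5
        _ ≤ (r ^ (3 * (n / r))) ^ 5 := Nat.pow_le_pow_left h1 5
        _ = r ^ (15 * (n / r)) := by rw [← pow_mul]; congr 1; ring
    rcases Nat.eq_zero_or_pos (n / r) with h0 | h0
    · rw [h0] at h2
      have : 1 < 2 ^ (7 * n) := Nat.one_lt_two_pow (by omega)
      simp only [mul_zero, pow_zero] at h2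
      omega
    · have h3 : r ^ (15 * (n / r)) < 2 ^ (7 * r * (n / r)) := by
        rw [pow_mul, pow_mul]
        exact Nat.pow_lt_pow_left (pow_fifteen_lt hr5) (by omega)
      have h4 : 7 * r * (n / r) ≤ 7 * n := by
        rw [mul_assoc]
        exact Nat.mul_le_mul_left 7 (Nat.mul_div_le n r)
      have h5 : 2 ^ (7 * r * (n / r)) ≤ 2 ^ (7 * n) := Nat.pow_le_pow_right (by norm_num) h4
      omega
  · -- `r ≤ n / 5`
    have hBc' : Cheb.B n ∣ c' := by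
      rw [hc'] at hB
      exact (Nat.Coprime.pow_right N (Nat.Coprime.pow_right f (coprime_B hr h5))).dvd_of_dvd_mul_left hB
    have hc'0 : 0 < c' := by
      apply Nat.pos_of_ne_zero
      rintro rfl
      exact hc0 (by rw [hc', mul_zero])
    have hmain : 2 ^ (7 * n) ≤ r ^ (5 * (f * (N + l))) := by
      calc 2 ^ (7 * n) ≤ (Cheb.B n) ^ 5 := hBn
        _ ≤ (r ^ (f * (N + l))) ^ 5 := Nat.pow_le_pow_left ((Nat.le_of_dvd hc'0 hBc').trans hc'le) 5
        _ = r ^ (5 * (f * (N + l))) := by rw [← pow_mul]; congr 1; ring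
    by_cases hr2 : r = 2
    · left
      subst hr2
      have h1 : 7 * n ≤ 5 * (f * (N + l)) := (Nat.pow_le_pow_iff_right (by norm_num)).1 hmain
      refine ⟨rfl, ?_, h1⟩
      by_contra hcon
      have h2 : 5 * (f * (N + l)) ≤ 7 * (f * N) := by nlinarith only [hcon]
      omega
    · by_cases hr3 : r = 3
      · right
        subst hr3
        refine ⟨rfl, ?_, hmain⟩
        by_contra hcon
        have h2 : 6 * (5 * (f * (N + l))) ≤ 50 * (f * N) := by nlinarith only [hcon]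
        have h3 : 50 * (f * N) ≤ 25 * (n - 1) := by omega
        have h4 : (2 ^ (7 * n)) ^ 6 ≤ (3 ^ (5 * (f * (N + l)))) ^ 6 := Nat.pow_le_pow_left hmain 6
        rw [← pow_mul, ← pow_mul] at h4
        have h5 : 3 ^ (5 * (f * (N + l)) * 6) ≤ 3 ^ (25 * (n - 1)) := Nat.pow_le_pow_right (by norm_num) (by (clear * - h2 h3; omega))
        have h6 : (3 : ℕ) ^ (25 * (n - 1)) ≤ 2 ^ (42 * (n - 1)) := by
          rw [pow_mul, pow_mul]
          exact Nat.pow_le_pow_left (by norm_num) _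
        have h7 : (2 : ℕ) ^ (42 * (n - 1)) < 2 ^ (7 * n * 6) := Nat.pow_lt_pow_right (by norm_num) (by omega)
        omega
      · exfalso
        have hr5 : 5 ≤ r := by
          have := hr.two_le
          have h4 : r ≠ 4 := by
            rintro rfl
            exact absurd hr (by norm_num)
          omega
        have h2 : 5 * (f * (N + l)) ≤ 10 * (f * N) := by nlinarith only [hlN]
        have h3 : (2 ^ (7 * n)) ^ (r - 1) ≤ (r ^ (10 * (f * N))) ^ (r - 1) :=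
          Nat.pow_le_pow_left (hmain.trans (Nat.pow_le_pow_right hr.pos h2)) _
        have h4 : (r ^ (10 * (f * N))) ^ (r - 1) ≤ r ^ (10 * (n - 1)) := by
          rw [← pow_mul]
          apply Nat.pow_le_pow_right hr.pos
          have : 10 * (f * N) * (r - 1) = 10 * ((r - 1) * (f * N)) := by ring
          omega
        have h5 : r ^ (10 * (n - 1)) ≤ 2 ^ (7 * (r - 1) * (n - 1)) := by
          rw [pow_mul, pow_mul]
          exact Nat.pow_le_pow_left (pow_ten_le hr5) _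
        have h6 : (2 : ℕ) ^ (7 * (r - 1) * (n - 1)) < (2 ^ (7 * n)) ^ (r - 1) := by
          rw [← pow_mul]
          apply Nat.pow_lt_pow_right (by norm_num)
          have h7 : 7 * n * (r - 1) = 7 * (r - 1) * n := by ring
          rw [h7]
          exact Nat.mul_lt_mul_of_pos_left (by omega) (by omega)
        omega

/-! ### large primitive primes -/

theorem zsig_false {r m c n : ℕ} (hr : r = 2 ∨ r = 3) (hm : 18 < m) (h2m : n < 2 * m) (hc : c ∣ n.factorial)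
    (h : ∀ z j : ℕ, z.Prime → (∀ i : ℕ, 1 ≤ i → i < m → ¬ z ∣ r ^ i - 1) → z ^ j ∣ r ^ m - 1 → z ^ j ∣ c) :
    False := by
  obtain ⟨z, hz, hzd, hprim, hlarge⟩ := Cfsg.Agent.H365.Zsig.large_zsigmondy r m (by omega) (by omega)
    (fun h => by omega) (fun h => by omega) (fun h => by omega) (fun h => by omega)
  have hzr : ¬ z ∣ r := by
    intro hd
    have h1 : z ∣ r ^ m := hd.trans (dvd_pow_self r (by omega))
    have h2 : 1 ≤ r ^ m := Nat.one_le_pow _ _ (by omega)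
    have h3 : z ∣ 1 := by
      have := Nat.dvd_sub h1 hzd
      rwa [Nat.sub_sub_self h2] at this
    exact hz.one_lt.ne' (Nat.dvd_one.1 h3)
  have : Fact z.Prime := ⟨hz⟩
  have hr0 : (r : ZMod z) ≠ 0 := by
    intro h0
    exact hzr ((ZMod.natCast_eq_zero_iff r z).1 h0)
  have hone : ∀ i : ℕ, (r : ZMod z) ^ i = 1 ↔ z ∣ r ^ i - 1 := by
    intro i
    have h2 : 1 ≤ r ^ i := Nat.one_le_pow _ _ (by omega)
    rw [← ZMod.natCast_eq_zero_iff, Nat.cast_sub h2, Nat.cast_pow, Nat.cast_one, sub_eq_zero]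
  have hord : orderOf (r : ZMod z) = m := by
    apply (orderOf_eq_iff (by omega)).2
    refine ⟨(hone m).2 hzd, fun i hi hi0 h1 => ?_⟩
    exact hprim i hi0 hi ((hone i).1 h1)
  have hmz : m ∣ z - 1 := by
    rw [← hord]
    apply orderOf_dvd_of_pow_eq_one
    exact ZMod.pow_card_sub_one_eq_one hr0
  have hzc : z ∣ c := by
    have := h z 1 hz hprim (by rw [pow_one]; exact hzd)
    rwa [pow_one] at this
  have hzn : z ≤ n := (hz.dvd_factorial).1 (hzc.trans hc)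
  have hz2 := hz.two_le
  have hzm : z = m + 1 := by
    obtain ⟨d, hd⟩ := hmz
    have hd2 : d < 2 := by
      by_contra hlt
      have : m * 2 ≤ m * d := Nat.mul_le_mul_left m (by omega)
      omega
    have hd0 : d ≠ 0 := by
      rintro rfl
      omega
    have hd1 : d = 1 := by omega
    rw [hd1, mul_one] at hd
    omega
  have hsq : z ^ 2 ∣ r ^ m - 1 := by
    rcases hlarge with h1 | h1
    · omega
    · exact h1
  have h3 : z ^ 2 ∣ n.factorial := (h z 2 hz hprim hsq).trans hc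
  have h4 := (hz.pow_dvd_iff_le_factorization n.factorial_ne_zero).1 h3
  rw [Cfsg.Agent.H363.AltPrimes.factorization_factorial hz hzn (by omega)] at h4
  omega

theorem zpow_dvd {z j den c X Y : ℕ} (hz : z.Prime) (hnd : ¬ z ∣ den) (heq : den * c = X * Y)
    (hj : z ^ j ∣ Y) : z ^ j ∣ c := by
  have h1 : z ^ j ∣ den * c := by
    rw [heq]
    exact hj.mul_left _
  exact (Nat.Coprime.pow_left j ((hz.coprime_iff_not_dvd).2 hnd)).dvd_of_dvd_mul_left h1

end Cfsg.Agent.H357.LieBound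
end

-- part: H357/Fams
section
/-!
# The families (helper357)

`arith` : the order of a known simple group dividing `n!`, `n ≥ 41`, divisible by `B n` and by all primes of
`(n/2, n]`, is the order of an alternating group.
-/

set_option autoImplicit false

namespace Cfsg.Agent.H357.LieBound

open Cfsg.Agent.H405.Shape Cfsg.Agent.OrdDiv Finset

/-! ### upper bounds for the products -/

theorem sum_range_two (n : ℕ) : ∑ i ∈ range n, (i + 2) = n * (n + 1) / 2 + n := by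
  induction n with
  | zero => rfl
  | succ n ih =>
    rw [sum_range_succ, ih]
    have h1 : (n + 1) * (n + 1 + 1) = n * (n + 1) + 2 * (n + 1) := by ring
    rw [h1]
    omega

theorem psl_le {n q : ℕ} (hn : 1 ≤ n) : ∏ i ∈ range n, (q ^ (i + 1) - 1) ≤
    (Nat.gcd n (q - 1) * (q - 1)) * q ^ (n * (n - 1) / 2 + (n - 1)) := by
  obtain ⟨m, rfl⟩ : ∃ m, n = m + 1 := ⟨n - 1, by omega⟩
  rw [prod_range_succ']
  have h1 : ∏ i ∈ range m, (q ^ (i + 1 + 1) - 1) ≤ q ^ (∑ i ∈ range m, (i + 2)) := by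
    rw [← prod_pow_eq_pow_sum]
    exact prod_le_prod' fun i _ => Nat.sub_le _ _
  rw [sum_range_two] at h1
  have h2 : (m + 1) * (m + 1 - 1) = m * (m + 1) := by rw [Nat.add_sub_cancel]; ring
  rw [h2, Nat.add_sub_cancel, zero_add, pow_one]
  have h3 : q - 1 ≤ Nat.gcd (m + 1) (q - 1) * (q - 1) :=
    Nat.le_mul_of_pos_left _ (Nat.gcd_pos_of_pos_left _ (by omega))
  calc _ ≤ q ^ (m * (m + 1) / 2 + m) * (Nat.gcd (m + 1) (q - 1) * (q - 1)) := Nat.mul_le_mul h1 h3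
    _ = _ := by ring

theorem prB_le {m q : ℕ} : ∏ i ∈ range m, (q ^ (2 * (i + 1)) - 1) ≤ q ^ (m * (m + 1)) := by
  have h1 : ∏ i ∈ range m, (q ^ (2 * (i + 1)) - 1) ≤ q ^ (∑ i ∈ range m, 2 * (i + 1)) := by
    rw [← prod_pow_eq_pow_sum]
    exact prod_le_prod' fun i _ => Nat.sub_le _ _
  have h2 : ∑ i ∈ range m, 2 * (i + 1) = m * (m + 1) := by
    induction m with
    | zero => rfl
    | succ m ih =>
      rw [sum_range_succ, ih]
      · ring
      · rw [← prod_pow_eq_pow_sum]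
        exact prod_le_prod' fun i _ => Nat.sub_le _ _
  rwa [h2] at h1

/-- pairs of factors in the unitary order -/
theorem pair_le {q k : ℕ} (hq : 1 ≤ q) : (q ^ k - 1) * (q ^ (k + 1) + 1) ≤ q ^ (2 * k + 1) := by
  obtain ⟨x, hx⟩ : ∃ x, q ^ k = x + 1 := ⟨q ^ k - 1, by have := Nat.one_le_pow k q hq; omega⟩
  have h1 : q ^ (2 * k + 1) = (x + 1) * (x + 1) * q := by rw [← hx]; ring
  rw [h1, pow_succ, hx, Nat.add_sub_cancel]
  obtain ⟨y, rfl⟩ : ∃ y, q = y + 1 := ⟨q - 1, by omega⟩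
  linarith only [Nat.zero_le (x * y)]

/-- the factors of the unitary order -/
def uf (q i : ℕ) : ℕ := if Even i then q ^ (i + 1) + 1 else q ^ (i + 1) - 1

theorem uf_pairs {q : ℕ} (hq : 1 ≤ q) (j : ℕ) : ∏ i ∈ range (2 * j), uf q (i + 1) ≤ q ^ (j * (2 * j + 3)) := by
  induction j with
  | zero => simp
  | succ j ih =>
    rw [show 2 * (j + 1) = 2 * j + 1 + 1 by ring, prod_range_succ, prod_range_succ, mul_assoc]
    have e1 : uf q (2 * j + 1) = q ^ (2 * j + 2) - 1 := by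
      unfold uf
      rw [if_neg (by rw [Nat.not_even_iff_odd]; exact ⟨j, by ring⟩)]
    have e2 : uf q (2 * j + 1 + 1) = q ^ (2 * j + 2 + 1) + 1 := by
      unfold uf
      rw [if_pos ⟨j + 1, by ring⟩]
    rw [e1, e2]
    calc _ ≤ q ^ (j * (2 * j + 3)) * q ^ (2 * (2 * j + 2) + 1) := Nat.mul_le_mul ih (pair_le hq)
      _ = q ^ ((j + 1) * (2 * j + 1 + 1 + 3)) := by rw [← pow_add]; congr 1; ring

theorem uf_le {q : ℕ} (hq : 1 ≤ q) (m : ℕ) : ∏ i ∈ range m, uf q (i + 1) ≤ q ^ (m * (m + 1) / 2 + m) := by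
  rcases Nat.even_or_odd' m with ⟨j, rfl | rfl⟩
  · refine (uf_pairs hq j).trans (Nat.pow_le_pow_right hq ?_)
    have : 2 * j * (2 * j + 1) = 2 * (j * (2 * j + 1)) := by ring
    rw [this, Nat.mul_div_cancel_left _ (by norm_num)]
    linarith only []
  · rw [prod_range_succ]
    have e1 : uf q (2 * j + 1) ≤ q ^ (2 * j + 2) := by
      unfold uf
      rw [if_neg (by rw [Nat.not_even_iff_odd]; exact ⟨j, by ring⟩)]
      exact Nat.sub_le _ _
    refine (Nat.mul_le_mul (uf_pairs hq j) e1).trans ?_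
    rw [← pow_add]
    apply Nat.pow_le_pow_right hq
    have : (2 * j + 1) * (2 * j + 1 + 1) = 2 * ((2 * j + 1) * (j + 1)) := by ring
    rw [this, Nat.mul_div_cancel_left _ (by norm_num)]
    linarith only []

theorem psu_le {n q : ℕ} (hq : 1 ≤ q) (hn : 1 ≤ n) :
    ∏ i ∈ range n, (if Even i then q ^ (i + 1) + 1 else q ^ (i + 1) - 1) ≤
      (Nat.gcd n (q + 1) * (q + 1)) * q ^ (n * (n - 1) / 2 + (n - 1)) := by
  obtain ⟨m, rfl⟩ : ∃ m, n = m + 1 := ⟨n - 1, by omega⟩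
  have h1 := uf_le hq m
  have h0 : ∏ i ∈ range (m + 1), (if Even i then q ^ (i + 1) + 1 else q ^ (i + 1) - 1) =
      (∏ i ∈ range m, uf q (i + 1)) * (q + 1) := by
    rw [prod_range_succ']
    congr 1
    simp only [_root_.Even.zero, ↓ _root_.reduceIte, _root_.zero_add, _root_.pow_one, _root_.Nat.add_left_cancel_iff]
  rw [h0]
  have h2 : (m + 1) * (m + 1 - 1) = m * (m + 1) := by rw [Nat.add_sub_cancel]; ring
  rw [h2, Nat.add_sub_cancel]
  have h3 : q + 1 ≤ Nat.gcd (m + 1) (q + 1) * (q + 1) :=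
    Nat.le_mul_of_pos_left _ (Nat.gcd_pos_of_pos_left _ (by omega))
  calc _ ≤ q ^ (m * (m + 1) / 2 + m) * (Nat.gcd (m + 1) (q + 1) * (q + 1)) := Nat.mul_le_mul h1 h3
    _ = _ := by ring

theorem oplus_le {m q : ℕ} (hm : 1 ≤ m) :
    (q ^ m - 1) * ∏ i ∈ range (m - 1), (q ^ (2 * (i + 1)) - 1) ≤ q ^ (m * (m - 1) + m) := by
  calc (q ^ m - 1) * ∏ i ∈ range (m - 1), (q ^ (2 * (i + 1)) - 1) ≤ q ^ m * q ^ ((m - 1) * (m - 1 + 1)) :=
        Nat.mul_le_mul (Nat.sub_le _ _) prB_le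
    _ = q ^ (m * (m - 1) + m) := by
      rw [← pow_add, Nat.sub_add_cancel hm]
      congr 1
      ring

theorem ominus_le {m q : ℕ} (hq : 1 ≤ q) (hm : 2 ≤ m) :
    (q ^ m + 1) * ∏ i ∈ range (m - 1), (q ^ (2 * (i + 1)) - 1) ≤ q ^ (m * (m - 1) + m) := by
  obtain ⟨k, rfl⟩ : ∃ k, m = k + 2 := ⟨m - 2, by omega⟩
  rw [show k + 2 - 1 = k + 1 by omega, prod_range_succ', ← mul_assoc, mul_comm (q ^ (k + 2) + 1), mul_assoc]
  have h1 : (q ^ (k + 2) + 1) * (q ^ (2 * (0 + 1)) - 1) ≤ q ^ (k + 4) := by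
    obtain ⟨x, hx⟩ : ∃ x, q ^ 2 = x + 1 := ⟨q ^ 2 - 1, by have := Nat.one_le_pow 2 q hq; omega⟩
    have hk : 1 ≤ q ^ k := Nat.one_le_pow _ _ hq
    have e1 : q ^ (k + 2) = q ^ k * (x + 1) := by rw [pow_add, hx]
    have e2 : q ^ (k + 4) = q ^ k * (x + 1) * (x + 1) := by rw [show k + 4 = k + 2 + 2 by ring, pow_add, pow_add, hx]
    rw [show 2 * (0 + 1) = 2 by norm_num, hx, e1, e2, Nat.add_sub_cancel]
    nlinarith only [hk]
  have h2 : ∏ i ∈ range k, (q ^ (2 * (i + 1 + 1)) - 1) ≤ q ^ (∑ i ∈ range k, 2 * (i + 1 + 1)) := by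
    rw [← prod_pow_eq_pow_sum]
    exact prod_le_prod' fun i _ => Nat.sub_le _ _
  have h3 : ∀ k : ℕ, ∑ i ∈ range k, 2 * (i + 1 + 1) = k * (k + 3) := by
    intro k
    induction k with
    | zero => rfl
    | succ k ih =>
      rw [sum_range_succ, ih]
      ring
  rw [h3] at h2
  calc _ ≤ q ^ (k * (k + 3)) * q ^ (k + 4) := Nat.mul_le_mul h2 h1
    _ = q ^ ((k + 2) * (k + 1) + (k + 2)) := by rw [← pow_add]; congr 1; ring

end Cfsg.Agent.H357.LieBound
end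

-- part: H357/Arith
section
/-!
# Only alternating groups (helper357)

`arith` : the order of a known simple group dividing `n!`, `n ≥ 41`, divisible by `B n` and by all primes of
`(n/2, n]`, is the order of an alternating group.
-/

set_option autoImplicit false

namespace Cfsg.Agent.H357.LieBound

open Cfsg.Agent.H405.Shape Cfsg.Agent.OrdDiv Finset

theorem sub_mul_add {x : ℕ} (hx : 1 ≤ x) : x ^ 2 - 1 = (x - 1) * (x + 1) := by
  obtain ⟨y, rfl⟩ : ∃ y, x = y + 1 := ⟨x - 1, by omega⟩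
  rw [Nat.add_sub_cancel]
  have : (y + 1) ^ 2 = y * (y + 1 + 1) + 1 := by ring
  omega

section

variable {n c f : ℕ}

/-- `z ^ j ∣ (q ^ i) ^ 2 - 1`, `z ∤ q ^ i - 1`: `z ^ j ∣ q ^ i + 1` -/
theorem dvd_add_one {z j x : ℕ} (hz : z.Prime) (hx : 1 ≤ x) (h1 : ¬ z ∣ x - 1) (h2 : z ^ j ∣ x ^ 2 - 1) :
    z ^ j ∣ x + 1 := by
  rw [sub_mul_add hx] at h2
  exact (Nat.Coprime.pow_left j ((hz.coprime_iff_not_dvd).2 h1)).dvd_of_dvd_mul_left h2

/-- the linear groups in dimension `2`, `3`, `4` -/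
theorem psl_false {r d : ℕ} (hr : r = 2 ∨ r = 3) (hd : 2 ≤ d) (hn : 41 ≤ n) (hf : 1 ≤ f) (hm : n < 2 * (f * d))
    (h : LieOrd (Nat.gcd d (r ^ f - 1) * (r ^ f - 1)) (d * (d - 1) / 2) (∏ i ∈ range d, ((r ^ f) ^ (i + 1) - 1))
      (r ^ f) c) (hc : c ∣ n.factorial) : False := by
  obtain ⟨-, -, heq⟩ := h
  refine zsig_false (n := n) hr (m := f * d) (by omega) hm hc fun z j hz hprim hj => ?_
  have h1 : ¬ z ∣ r ^ f - 1 := by
    apply hprim f hf
    calc f < f * 2 := by omega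
      _ ≤ f * d := Nat.mul_le_mul_left f hd
  have hden : ¬ z ∣ Nat.gcd d (r ^ f - 1) * (r ^ f - 1) := by
    rw [hz.dvd_mul]
    rintro (h2 | h2)
    · exact h1 (h2.trans (Nat.gcd_dvd_right _ _))
    · exact h1 h2
  obtain ⟨e, rfl⟩ : ∃ e, d = e + 1 := ⟨d - 1, by omega⟩
  rw [prod_range_succ, ← mul_assoc ((r ^ f) ^ _)] at heq
  apply zpow_dvd hz hden heq
  rw [← pow_mul]
  exact hj

theorem psu_false {d : ℕ} (hd : d = 3 ∨ d = 4) (hn : 41 ≤ n) (hf : 1 ≤ f) (hm : n < 2 * (6 * f))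
    (h : LieOrd (Nat.gcd d (2 ^ f + 1) * (2 ^ f + 1)) (d * (d - 1) / 2)
      (∏ i ∈ range d, (if Even i then (2 ^ f) ^ (i + 1) + 1 else (2 ^ f) ^ (i + 1) - 1)) (2 ^ f) c)
    (hc : c ∣ n.factorial) : False := by
  obtain ⟨-, -, heq⟩ := h
  have hq : 1 ≤ 2 ^ f := Nat.one_le_two_pow
  refine zsig_false (n := n) (Or.inl rfl) (m := 6 * f) (by omega) hm hc fun z j hz hprim hj => ?_
  have h1 : ¬ z ∣ 2 ^ f + 1 := by
    intro h2
    apply hprim (2 * f) (by omega) (by omega)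
    rw [mul_comm, pow_mul, sub_mul_add hq]
    exact h2.mul_left _
  have hden : ¬ z ∣ Nat.gcd d (2 ^ f + 1) * (2 ^ f + 1) := by
    rw [hz.dvd_mul]
    rintro (h2 | h2)
    · exact h1 (h2.trans (Nat.gcd_dvd_right _ _))
    · exact h1 h2
  have h3 : z ^ j ∣ (2 ^ f) ^ 3 + 1 := by
    apply dvd_add_one hz (Nat.one_le_pow _ _ hq)
    · rw [← pow_mul]
      exact hprim (f * 3) (by omega) (by omega)
    · rw [← pow_mul, ← pow_mul, show f * (3 * 2) = 6 * f by ring]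
      exact hj
  have h4 : (2 ^ f) ^ 3 + 1 ∣ ∏ i ∈ range d, (if Even i then (2 ^ f) ^ (i + 1) + 1 else (2 ^ f) ^ (i + 1) - 1) := by
    have h5 : (if Even 2 then (2 ^ f) ^ (2 + 1) + 1 else (2 ^ f) ^ (2 + 1) - 1) ∣
        ∏ i ∈ range d, (if Even i then (2 ^ f) ^ (i + 1) + 1 else (2 ^ f) ^ (i + 1) - 1) :=
      Finset.dvd_prod_of_mem (fun i => if Even i then (2 ^ f) ^ (i + 1) + 1 else (2 ^ f) ^ (i + 1) - 1)
        (mem_range.2 (by omega))
    rwa [if_pos (by decide)] at h5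
  exact zpow_dvd hz hden heq (h3.trans h4)

end

theorem spor_facts : ∀ x ∈ spor, ¬ (37 ∣ x.2 ∧ 41 ∣ x.2) ∧ ¬ 73 ∣ x.2 ∧ x.2 < 2 ^ 180 := by decide +kernel

theorem spor_false {n c : ℕ} (hn : 41 ≤ n) (hB : Cheb.B n ∣ c)
    (hp : ∀ p : ℕ, p.Prime → n < 2 * p → p ≤ n → p ∣ c) {g : Grp} (hg : (g, c) ∈ spor) : False := by
  obtain ⟨h1, h2, h3⟩ := spor_facts _ hg
  simp only at h1 h2 h3
  rcases Nat.lt_or_ge n 73 with h | h
  · exact h1 ⟨hp 37 (by norm_num) (by omega) (by omega), hp 41 (by norm_num) (by omega) (by omega)⟩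
  · rcases Nat.lt_or_ge n 146 with h' | h'
    · exact h2 (hp 73 (by norm_num) (by omega) (by omega))
    · have hc0 : 0 < c := by
        rcases Nat.eq_zero_or_pos c with h0 | h0
        · exact absurd ⟨h0 ▸ dvd_zero 37, h0 ▸ dvd_zero 41⟩ h1
        · exact h0
      have h4 := Cheb.two_pow_le_B (n := n) (by omega)
      have h5 : (Cheb.B n) ^ 5 ≤ c ^ 5 := Nat.pow_le_pow_left (Nat.le_of_dvd hc0 hB) 5
      have h6 : c ^ 5 ≤ (2 ^ 180) ^ 5 := Nat.pow_le_pow_left h3.le 5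
      have h7 : (2 : ℕ) ^ (7 * 146) ≤ 2 ^ (7 * n) := Nat.pow_le_pow_right (by norm_num) (by omega)
      have h8 : ((2 : ℕ) ^ 180) ^ 5 < 2 ^ (7 * 146) := by
        rw [← pow_mul]
        exact Nat.pow_lt_pow_right (by norm_num) (by norm_num)
      omega

/-- **Only alternating groups** -/
theorem arith {n c : ℕ} (hn : 41 ≤ n) (hc : c ∣ n.factorial) (hB : Cheb.B n ∣ c)
    (hp : ∀ p : ℕ, p.Prime → n < 2 * p → p ≤ n → p ∣ c) {g : Grp} (hg : _root_.Cfsg.Agent.H405.Shape.Ord g c) : ∃ m, g = .alt m := by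
  -- a family without exceptions
  have good : ∀ (N l R den q : ℕ), l ≤ N → 5 * l ≤ 2 * N → (3 * l ≤ 2 * N) → LieOrd den N R q c →
      R ≤ den * q ^ (N + l) → False := by
    intro N l R den q h1 h2 h3 h4 h5
    obtain ⟨r, f, hr, hf, rfl⟩ := (isPrimePow_nat_iff _).1 h4.pp
    rcases lie_core hn hr hf h1 h4 h5 hc hB with ⟨-, h6, -⟩ | ⟨-, h6, -⟩ <;> omega
  have hq1 : ∀ {den N R q : ℕ}, LieOrd den N R q c → 1 ≤ q := fun h => h.pp.one_lt.le
  have hdenpos : ∀ {den N R q : ℕ}, LieOrd den N R q c → 1 ≤ den := fun {den N R q} h => by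
    rcases Nat.eq_zero_or_pos den with h0 | h0
    · have h1 := h.cop
      rw [h0, Nat.coprime_zero_left] at h1
      have := h.pp.one_lt
      omega
    · exact h0
  -- a product of factors `≤ q ^ k` is bounded
  have hle : ∀ {den N R q k : ℕ}, LieOrd den N R q c → R ≤ q ^ k → R ≤ den * q ^ k := fun h h1 =>
    h1.trans (Nat.le_mul_of_pos_left _ (hdenpos h))
  cases g with
  | alt m => exact ⟨m, rfl⟩
  | psl d q =>
    exfalso
    obtain ⟨hd, hd2, h⟩ := hg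
    have h5 := psl_le (q := q) (show 1 ≤ d by omega)
    obtain ⟨r, f, hr, hf, rfl⟩ := (isPrimePow_nat_iff _).1 h.pp
    have hdd : d - 1 ≤ d * (d - 1) / 2 := by
      rw [Nat.le_div_iff_mul_le (by norm_num), mul_comm]
      exact Nat.mul_le_mul_right _ hd
    have hdiv : 2 * (d * (d - 1) / 2) = d * (d - 1) := Nat.mul_div_cancel' (Nat.even_mul_pred_self d).two_dvd
    rcases lie_core hn hr hf hdd h h5 hc hB with ⟨rfl, h6, h7⟩ | ⟨rfl, h6, h7⟩
    · have hd5 : d < 5 := by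
        rw [hdiv] at h6
        exact Nat.lt_of_mul_lt_mul_right h6
      apply psl_false (r := 2) (Or.inl rfl) hd hn hf _ h hc
      interval_cases d
      · have : 2 * (2 - 1) / 2 + (2 - 1) = 2 := by norm_num
        rw [this] at h7
        omega
      · have : 3 * (3 - 1) / 2 + (3 - 1) = 5 := by norm_num
        rw [this] at h7
        omega
      · have : 4 * (4 - 1) / 2 + (4 - 1) = 9 := by norm_num
        rw [this] at h7
        omega
    · have hd3 : d < 3 := by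
        rw [hdiv] at h6
        exact Nat.lt_of_mul_lt_mul_right h6
      have hd2 : d = 2 := by omega
      subst hd2
      apply psl_false (r := 3) (Or.inr rfl) hd hn hf _ h hc
      have : 2 * (2 - 1) / 2 + (2 - 1) = 2 := by norm_num
      rw [this] at h7
      -- `2 ^ (7 n) ≤ 3 ^ (10 f)`
      have h8 : (2 : ℕ) ^ (7 * n) ≤ 2 ^ (16 * f) := by
        calc (2 : ℕ) ^ (7 * n) ≤ 3 ^ (5 * (f * 2)) := h7
          _ = (3 ^ 10) ^ f := by rw [← pow_mul]; congr 1; ring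
          _ ≤ (2 ^ 16) ^ f := Nat.pow_le_pow_left (by norm_num) f
          _ = 2 ^ (16 * f) := by rw [← pow_mul]
      have h9 := (Nat.pow_le_pow_iff_right (by norm_num : 1 < 2)).1 h8
      omega
  | psp m q =>
    exfalso
    obtain ⟨hm, hm2, h⟩ := hg
    have h5 : ∏ i ∈ range m, (q ^ (2 * (i + 1)) - 1) ≤ Nat.gcd 2 (q - 1) * q ^ (m ^ 2 + m) := by
      apply hle h
      have := prB_le (m := m) (q := q)
      rwa [show m * (m + 1) = m ^ 2 + m by ring] at this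
    obtain ⟨r, f, hr, hf, rfl⟩ := (isPrimePow_nat_iff _).1 h.pp
    rcases lie_core hn hr hf (by nlinarith only []) h h5 hc hB with ⟨rfl, h6, h7⟩ | ⟨rfl, h6, h7⟩
    · have hm3 : m < 3 := by nlinarith only [h6]
      have hm2 : m = 2 := by omega
      subst hm2
      obtain ⟨-, -, heq⟩ := h
      have hq : 1 ≤ 2 ^ f := Nat.one_le_two_pow
      refine zsig_false (n := n) (Or.inl rfl) (m := f * 4) (by omega) (by omega) hc fun z j hz hprim hj => ?_
      have h1 : ¬ z ∣ 2 ^ f - 1 := hprim f hf (by omega)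
      have hden : ¬ z ∣ Nat.gcd 2 (2 ^ f - 1) := fun h2 => h1 (h2.trans (Nat.gcd_dvd_right _ _))
      rw [prod_range_succ, ← mul_assoc ((2 ^ f) ^ _)] at heq
      apply zpow_dvd hz hden heq
      rw [← pow_mul]
      exact hj
    · have : m < 2 := by nlinarith only [h6]
      omega
  | psu d q =>
    exfalso
    obtain ⟨hd, hd2, h⟩ := hg
    have h5 := psu_le (hq1 h) (show 1 ≤ d by omega)
    obtain ⟨r, f, hr, hf, rfl⟩ := (isPrimePow_nat_iff _).1 h.pp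
    have hdd : d - 1 ≤ d * (d - 1) / 2 := by
      rw [Nat.le_div_iff_mul_le (by norm_num), mul_comm]
      exact Nat.mul_le_mul_right _ (by omega)
    have hdiv : 2 * (d * (d - 1) / 2) = d * (d - 1) := Nat.mul_div_cancel' (Nat.even_mul_pred_self d).two_dvd
    rcases lie_core hn hr hf hdd h h5 hc hB with ⟨rfl, h6, h7⟩ | ⟨rfl, h6, h7⟩
    · have hd5 : d < 5 := by
        rw [hdiv] at h6
        exact Nat.lt_of_mul_lt_mul_right h6
      refine psu_false (show d = 3 ∨ d = 4 by omega) hn hf ?_ h hc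
      interval_cases d
      · have : 3 * (3 - 1) / 2 + (3 - 1) = 5 := by norm_num
        rw [this] at h7
        omega
      · have : 4 * (4 - 1) / 2 + (4 - 1) = 9 := by norm_num
        rw [this] at h7
        omega
    · have hd3 : d < 3 := by
        rw [hdiv] at h6
        exact Nat.lt_of_mul_lt_mul_right h6
      omega
  | oodd m q =>
    exfalso
    obtain ⟨hm, ho, h⟩ := hg
    apply good (m ^ 2) m _ _ q (by nlinarith only []) (by nlinarith) (by nlinarith) h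
    apply hle h
    have := prB_le (m := m) (q := q)
    rwa [show m * (m + 1) = m ^ 2 + m by ring] at this
  | oplus m q =>
    exfalso
    obtain ⟨hm, h⟩ := hg
    obtain ⟨k, rfl⟩ : ∃ k, m = k + 4 := ⟨m - 4, by omega⟩
    refine good ((k + 4) * (k + 4 - 1)) (k + 4) _ _ q ?_ ?_ ?_ h (hle h (oplus_le (by omega)))
    · rw [show k + 4 - 1 = k + 3 by omega]; nlinarith only []
    · rw [show k + 4 - 1 = k + 3 by omega]; nlinarith
    · rw [show k + 4 - 1 = k + 3 by omega]; nlinarith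
  | ominus m q =>
    exfalso
    obtain ⟨hm, h⟩ := hg
    obtain ⟨k, rfl⟩ : ∃ k, m = k + 4 := ⟨m - 4, by omega⟩
    refine good ((k + 4) * (k + 4 - 1)) (k + 4) _ _ q ?_ ?_ ?_ h (hle h (ominus_le (hq1 h) (by omega)))
    · rw [show k + 4 - 1 = k + 3 by omega]; nlinarith only []
    · rw [show k + 4 - 1 = k + 3 by omega]; nlinarith
    · rw [show k + 4 - 1 = k + 3 by omega]; nlinarith
  | g2 q =>
    exfalso
    obtain ⟨hq3, h⟩ := hg
    refine good 6 2 _ _ q (by norm_num) (by norm_num) (by norm_num) h (hle h ?_)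
    calc (q ^ 2 - 1) * (q ^ 6 - 1) ≤ q ^ 2 * q ^ 6 := Nat.mul_le_mul (Nat.sub_le _ _) (Nat.sub_le _ _)
      _ = q ^ (6 + 2) := by ring
  | f4 q =>
    exfalso
    refine good 24 4 _ _ q (by norm_num) (by norm_num) (by norm_num) hg (hle hg ?_)
    calc _ ≤ q ^ 2 * q ^ 6 * q ^ 8 * q ^ 12 := by gcongr <;> exact Nat.sub_le _ _
      _ = q ^ (24 + 4) := by ring
  | e6 q =>
    exfalso
    refine good 36 6 _ _ q (by norm_num) (by norm_num) (by norm_num) hg (hle hg ?_)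
    calc _ ≤ q ^ 2 * q ^ 5 * q ^ 6 * q ^ 8 * q ^ 9 * q ^ 12 := by gcongr <;> exact Nat.sub_le _ _
      _ = q ^ (36 + 6) := by ring
  | e7 q =>
    exfalso
    refine good 63 7 _ _ q (by norm_num) (by norm_num) (by norm_num) hg (hle hg ?_)
    calc _ ≤ q ^ 2 * q ^ 6 * q ^ 8 * q ^ 10 * q ^ 12 * q ^ 14 * q ^ 18 := by gcongr <;> exact Nat.sub_le _ _
      _ = q ^ (63 + 7) := by ring
  | e8 q =>
    exfalso
    refine good 120 8 _ _ q (by norm_num) (by norm_num) (by norm_num) hg (hle hg ?_)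
    calc _ ≤ q ^ 2 * q ^ 8 * q ^ 12 * q ^ 14 * q ^ 18 * q ^ 20 * q ^ 24 * q ^ 30 := by
          gcongr <;> exact Nat.sub_le _ _
      _ = q ^ (120 + 8) := by ring
  | te6 q =>
    exfalso
    have hq := hq1 hg
    refine good 36 6 _ _ q (by norm_num) (by norm_num) (by norm_num) hg (hle hg ?_)
    have h1 : (q ^ 2 - 1) * (q ^ 5 + 1) ≤ q ^ 7 := by
      have e1 : (q ^ 2 - 1) * (q ^ 5 + 1) + (q ^ 5 + 1) = q ^ 2 * (q ^ 5 + 1) := by
        rw [Nat.sub_mul, one_mul, Nat.sub_add_cancel]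
        exact Nat.le_mul_of_pos_left _ (by positivity)
      have e2 : q ^ 2 ≤ q ^ 5 := Nat.pow_le_pow_right hq (by norm_num)
      linarith only [e1, e2]
    have h2 : (q ^ 8 - 1) * (q ^ 9 + 1) ≤ q ^ 17 := by
      have := pair_le (k := 8) hq
      simpa only [_root_.ge_iff_le, _root_.Nat.reduceAdd, _root_.Nat.reduceMul] using this
    calc (q ^ 2 - 1) * (q ^ 5 + 1) * (q ^ 6 - 1) * (q ^ 8 - 1) * (q ^ 9 + 1) * (q ^ 12 - 1)
        = ((q ^ 2 - 1) * (q ^ 5 + 1)) * (q ^ 6 - 1) * ((q ^ 8 - 1) * (q ^ 9 + 1)) * (q ^ 12 - 1) := by ring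
      _ ≤ q ^ 7 * q ^ 6 * q ^ 17 * q ^ 12 := by
          gcongr <;> exact Nat.sub_le _ _
      _ = q ^ (36 + 6) := by ring
  | td4 q =>
    exfalso
    have hq := hq1 hg
    refine good 12 4 _ _ q (by norm_num) (by norm_num) (by norm_num) hg (hle hg ?_)
    have h1 : (q ^ 2 - 1) * (q ^ 8 + q ^ 4 + 1) ≤ q ^ 10 := by
      obtain ⟨x, hx⟩ : ∃ x, q ^ 2 = x + 1 := ⟨q ^ 2 - 1, by have := Nat.one_le_pow 2 q hq; omega⟩
      have e4 : q ^ 4 = (x + 1) ^ 2 := by rw [← hx]; ring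
      have e8 : q ^ 8 = (x + 1) ^ 4 := by rw [← hx]; ring
      have e10 : q ^ 10 = (x + 1) ^ 5 := by rw [← hx]; ring
      rw [e4, e8, e10, hx, Nat.add_sub_cancel]
      have : (x + 1) ^ 5 = x * ((x + 1) ^ 4 + (x + 1) ^ 2 + 1) + ((x + 1) ^ 4 - x * ((x + 1) ^ 2 + 1)) := by
        have e : x * ((x + 1) ^ 2 + 1) ≤ (x + 1) ^ 4 := by linarith only [Nat.zero_le (x ^ 3), Nat.zero_le (x ^ 4), _root_.sq_nonneg (↑x : ℤ), _root_.Nat.cast_nonneg (α := ℤ) (x)]
        zify [e]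
        ring
      omega
    calc (q ^ 2 - 1) * (q ^ 6 - 1) * (q ^ 8 + q ^ 4 + 1) = ((q ^ 2 - 1) * (q ^ 8 + q ^ 4 + 1)) * (q ^ 6 - 1) := by
          ring
      _ ≤ q ^ 10 * q ^ 6 := Nat.mul_le_mul h1 (Nat.sub_le _ _)
      _ = q ^ (12 + 4) := by ring
  | sz q =>
    exfalso
    obtain ⟨⟨k, hk, hq⟩, h⟩ := hg
    have hq1' := hq1 h
    have h5 : (q - 1) * (q ^ 2 + 1) ≤ 1 * q ^ (2 + 1) := by
      have := pair_le (k := 1) hq1'
      simpa only [_root_.Nat.reduceAdd, _root_.one_mul, _root_.ge_iff_le, _root_.pow_one, _root_.mul_one] using this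
    subst hq
    rcases lie_core hn Nat.prime_two (show 1 ≤ 2 * k + 1 by omega) (show 1 ≤ 2 by norm_num) h h5 hc hB with
      ⟨-, -, h7⟩ | ⟨h8, -⟩
    · obtain ⟨-, -, heq⟩ := h
      generalize hf : 2 * k + 1 = f at *
      have hq : 1 ≤ 2 ^ f := Nat.one_le_two_pow
      refine zsig_false (n := n) (Or.inl rfl) (m := f * 4) (by omega) (by omega) hc fun z j hz hprim hj => ?_
      have h3 : z ^ j ∣ (2 ^ f) ^ 2 + 1 := by
        apply dvd_add_one hz (Nat.one_le_pow _ _ hq)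
        · rw [← pow_mul]
          exact hprim (f * 2) (by omega) (by omega)
        · rw [← pow_mul, ← pow_mul, show f * (2 * 2) = f * 4 by ring]
          exact hj
      exact zpow_dvd hz (fun h1 => hz.one_lt.ne' (Nat.dvd_one.1 h1)) heq (h3.mul_left _)
    · omega
  | ree q =>
    exfalso
    obtain ⟨⟨k, hk, hq⟩, h⟩ := hg
    have hq1' := hq1 h
    have h5 : (q - 1) * (q ^ 3 + 1) ≤ q ^ (3 + 1) := by
      have e1 : (q - 1) * (q ^ 3 + 1) + (q ^ 3 + 1) = q * (q ^ 3 + 1) := by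
        rw [Nat.sub_mul, one_mul, Nat.sub_add_cancel]
        exact Nat.le_mul_of_pos_left _ (by omega)
      have e2 : q ≤ q ^ 3 := Nat.le_self_pow (by norm_num) q
      have e3 : q ^ (3 + 1) = q * q ^ 3 := by ring
      rw [e3]
      linarith only [e1, e2]
    subst hq
    rcases lie_core hn Nat.prime_three (show 1 ≤ 2 * k + 1 by omega) (show 1 ≤ 3 by norm_num) h (hle h h5) hc hB with
      ⟨h8, -⟩ | ⟨-, h8, -⟩ <;> omega
  | tf4 q =>
    exfalso
    obtain ⟨⟨k, hk, hq⟩, h⟩ := hg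
    have hq1' := hq1 h
    clear hq hk
    refine good 12 2 _ _ q (by norm_num) (by norm_num) (by norm_num) h (hle h ?_)
    have h1 : (q - 1) * (q ^ 3 + 1) ≤ q ^ 4 := by
      have e1 : (q - 1) * (q ^ 3 + 1) + (q ^ 3 + 1) = q * (q ^ 3 + 1) := by
        rw [Nat.sub_mul, one_mul, Nat.sub_add_cancel]
        exact Nat.le_mul_of_pos_left _ (by omega)
      have e2 : q ≤ q ^ 3 := Nat.le_self_pow (by norm_num) q
      have e3 : q ^ 4 = q * q ^ 3 := by ring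
      rw [e3]
      linarith only [e1, e2]
    have h2 : (q ^ 4 - 1) * (q ^ 6 + 1) ≤ q ^ 10 := by
      have e1 : (q ^ 4 - 1) * (q ^ 6 + 1) + (q ^ 6 + 1) = q ^ 4 * (q ^ 6 + 1) := by
        rw [Nat.sub_mul, one_mul, Nat.sub_add_cancel]
        exact Nat.le_mul_of_pos_left _ (by positivity)
      have e2 : q ^ 4 ≤ q ^ 6 := Nat.pow_le_pow_right hq1' (by norm_num)
      have e3 : q ^ 10 = q ^ 4 * q ^ 6 := by ring
      rw [e3]
      linarith only [e1, e2]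
    calc (q - 1) * (q ^ 3 + 1) * (q ^ 4 - 1) * (q ^ 6 + 1) = ((q - 1) * (q ^ 3 + 1)) * ((q ^ 4 - 1) * (q ^ 6 + 1)) := by
          ring
      _ ≤ q ^ 4 * q ^ 10 := Nat.mul_le_mul h1 h2
      _ = q ^ (12 + 2) := by ring
  | _ => exact absurd hg fun h => spor_false hn hB hp h

end Cfsg.Agent.H357.LieBound
end

-- part: H357/Small
section
/-!
# Small degrees `13 ≤ n ≤ 40` (helper357)
-/

set_option autoImplicit false

namespace Cfsg.Agent.H357.Small

open Cfsg.Agent.OrdDiv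

def isAlt : Grp → Bool
  | .alt _ => true
  | _ => false

/-- all groups whose order divides `N` and is divisible by the primes of `L` are alternating -/
def chk (l : List (ℕ × ℕ)) (N : ℕ) (L : List ℕ) : Bool :=
  valid l N && (cands l N).all fun g => isAlt g || !(L.all fun p => ordN g % p == 0)

theorem chk13 : chk [(2, 15), (3, 6), (5, 3), (7, 2), (11, 1), (13, 1)] 20922789888000 [11, 13] = true := by decide +kernel

theorem chk17 : chk [(2, 16), (3, 8), (5, 3), (7, 2), (11, 1), (13, 1), (17, 1)] 6402373705728000 [11, 13, 17] = true := by decide +kernel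

private noncomputable def _root_.Cfsg.Agent.KOe586092.oEq.{ku} (α : Sort ku) (a b : Nat) (f t : α) : α := @Decidable.rec (a = b) (fun _ => α) (fun _ => f) (fun _ => t) (Nat.decEq a b)
private noncomputable def _root_.Cfsg.Agent.KOe586092.k0.{ku} (α : Sort ku) (a b : Nat) (f t : α) : α := @Bool.rec (fun _ => α) f t (Nat.beq a b)
private theorem _root_.Cfsg.Agent.KOe586092.e0.{ku} : @_root_.Cfsg.Agent.KOe586092.oEq.{ku} = @_root_.Cfsg.Agent.KOe586092.k0.{ku} := funext fun α => funext fun a => funext fun b => funext fun f => funext fun t => by delta _root_.Cfsg.Agent.KOe586092.oEq _root_.Cfsg.Agent.KOe586092.k0; cases h : Nat.beq a b <;> cases Nat.decEq a b <;> rename_i g <;> first | rfl | exact absurd g (Nat.ne_of_beq_eq_false h) | exact absurd (Nat.eq_of_beq_eq_true h) g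
private theorem _root_.Cfsg.Agent.KOe586092.e1.{ku, kv} {α : Type kv} {M : List α → Sort ku} (φ : ∀ l, M l) {z : M List.nil} {s : ∀ a l, M l → M (List.cons a l)} (h0 : φ List.nil = z) (hs : ∀ a l, φ (List.cons a l) = s a l (φ l)) (l : List α) : φ l = @List.rec α M z s l := List.rec h0 (fun a l ih => (hs a l).trans (congrArg (s a l) ih)) l
private noncomputable def _root_.Cfsg.Agent.KOe586092.k2.{ku0} : type_of% @List.all.{ku0} := @(fun x0 x1 x2 => @List.rec.{(ku0+1), ku0} @x0 @(fun x3 => (@x0 → @Bool) → @Bool) @(fun x3 => @Bool.true) @(fun x3 x4 x5 x6 => @Bool.rec.{1} @(fun x7 => @Bool) @Bool.false (@x5 @x6) (@x6 @x3)) @x1 @x2)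
private theorem _root_.Cfsg.Agent.KOe586092.e2.{ku0} : @List.all.{ku0} = @_root_.Cfsg.Agent.KOe586092.k2.{ku0} := by delta _root_.Cfsg.Agent.KOe586092.k2; funext a0 a1 a2; refine (congrFun (_root_.Cfsg.Agent.KOe586092.e1 (fun a1 a2 => @List.all.{ku0} a0 a1 a2) ?_ (fun c0 c1 => ?_) a1) a2 :) <;> (rfl')
private noncomputable def _root_.Cfsg.Agent.KOe586092.k3.{ku0} : type_of% @List.append.{ku0} := @(fun x0 x1 x2 => @List.rec.{(ku0+1), ku0} @x0 @(fun x3 => (@List.{ku0} @x0) → @List.{ku0} @x0) @(fun x3 => @x3) @(fun x3 x4 x5 x6 => @x3 :: (@x5 @x6)) @x1 @x2)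
private theorem _root_.Cfsg.Agent.KOe586092.e3.{ku0} : @List.append.{ku0} = @_root_.Cfsg.Agent.KOe586092.k3.{ku0} := by delta _root_.Cfsg.Agent.KOe586092.k3; funext a0 a1 a2; refine (congrFun (_root_.Cfsg.Agent.KOe586092.e1 (fun a1 a2 => @List.append.{ku0} a0 a1 a2) ?_ (fun c0 c1 => ?_) a1) a2 :) <;> (rfl')
private noncomputable def _root_.Cfsg.Agent.KOe586092.k4.{ku0} : type_of% @List.flatten.{ku0} := @(fun x0 x1 => @List.rec.{(ku0+1), ku0} (@List.{ku0} @x0) @(fun x2 => @List.{ku0} @x0) [] @(fun x2 x3 x4 => @Cfsg.Agent.KOe586092.k3.{ku0} _ @x2 @x4) @x1)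
private theorem _root_.Cfsg.Agent.KOe586092.e4.{ku0} : @List.flatten.{ku0} = @_root_.Cfsg.Agent.KOe586092.k4.{ku0} := by delta _root_.Cfsg.Agent.KOe586092.k4; rewrite [← Cfsg.Agent.KOe586092.e3.{ku0}]; funext a0 a1; refine (_root_.Cfsg.Agent.KOe586092.e1 (fun a1 => @List.flatten.{ku0} a0 a1) ?_ (fun c0 c1 => ?_) a1 :) <;> (rfl')
private noncomputable def _root_.Cfsg.Agent.KOe586092.k5.{ku0, ku1} : type_of% @List.map.{ku0, ku1} := @(fun x0 x1 x2 x3 => @List.rec.{(ku1+1), ku0} @x0 @(fun x4 => @List.{ku1} @x1) [] @(fun x4 x5 x6 => (@x2 @x4) :: @x6) @x3)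
private theorem _root_.Cfsg.Agent.KOe586092.e5.{ku0, ku1} : @List.map.{ku0, ku1} = @_root_.Cfsg.Agent.KOe586092.k5.{ku0, ku1} := by delta _root_.Cfsg.Agent.KOe586092.k5; funext a0 a1 a2 a3; refine (_root_.Cfsg.Agent.KOe586092.e1 (fun a3 => @List.map.{ku0, ku1} a0 a1 a2 a3) ?_ (fun c0 c1 => ?_) a3 :) <;> (rfl')
private noncomputable def _root_.Cfsg.Agent.KOe586092.oB.{ku} (α : Sort ku) (c : Bool) (f t : α) : α := @Decidable.rec (c = true) (fun _ => α) (fun _ => f) (fun _ => t) (instDecidableEqBool c true)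
private noncomputable def _root_.Cfsg.Agent.KOe586092.k6.{ku} (α : Sort ku) (c : Bool) (f t : α) : α := @Bool.rec (fun _ => α) f t c
private theorem _root_.Cfsg.Agent.KOe586092.e6.{ku} : @_root_.Cfsg.Agent.KOe586092.oB.{ku} = @_root_.Cfsg.Agent.KOe586092.k6.{ku} := funext fun α => funext fun c => funext fun f => funext fun t => by cases c <;> rfl
private noncomputable def _root_.Cfsg.Agent.KOe586092.k7.{ku0} : type_of% @List.filter.{ku0} := @(fun x0 x1 x2 => @List.rec.{(ku0+1), ku0} @x0 @(fun x3 => @List.{ku0} @x0) [] @(fun x3 x4 x5 => @Bool.rec.{(ku0+1)} @(fun x6 => @List.{ku0} @x0) @x5 (@x3 :: @x5) (@x1 @x3)) @x2)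
private theorem _root_.Cfsg.Agent.KOe586092.e7.{ku0} : @List.filter.{ku0} = @_root_.Cfsg.Agent.KOe586092.k7.{ku0} := by delta _root_.Cfsg.Agent.KOe586092.k7; funext a0 a1 a2; refine (_root_.Cfsg.Agent.KOe586092.e1 (fun a2 => @List.filter.{ku0} a0 a1 a2) ?_ (fun c0 c1 => ?_) a2 :) <;> (rfl')
private theorem _root_.Cfsg.Agent.KOe586092.e8.{ku} {M : Nat → Sort ku} (φ : ∀ n, M n) {z : M Nat.zero} {s : ∀ n, M n → M (Nat.succ n)} (h0 : φ Nat.zero = z) (hs : ∀ n, φ (Nat.succ n) = s n (φ n)) (n : Nat) : φ n = @Nat.rec M z s n := Nat.rec h0 (fun n ih => (hs n).trans (congrArg (s n) ih)) n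
private noncomputable def _root_.Cfsg.Agent.KOe586092.k9 : type_of% @Nat.factorial := @(fun x0 => @Nat.rec.{1} @(fun x1 => ℕ) (nat_lit 1) @(fun x1 x2 => @Nat.mul (@Nat.succ @x1) @x2) @x0)
private theorem _root_.Cfsg.Agent.KOe586092.e9 : @Nat.factorial = @_root_.Cfsg.Agent.KOe586092.k9 := by delta _root_.Cfsg.Agent.KOe586092.k9; funext a0; refine (_root_.Cfsg.Agent.KOe586092.e8 (fun a0 => @Nat.factorial a0) ?_ (fun c0 => ?_) a0 :) <;> (rfl')
private noncomputable def _root_.Cfsg.Agent.KOe586092.k10 : type_of% @List.range.loop := @(fun x0 x1 => @Nat.rec.{1} @(fun x2 => (@List.{0} ℕ) → @List.{0} ℕ) @(fun x2 => @x2) @(fun x2 x3 x4 => @x3 (@x2 :: @x4)) @x0 @x1)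
private theorem _root_.Cfsg.Agent.KOe586092.e10 : @List.range.loop = @_root_.Cfsg.Agent.KOe586092.k10 := by delta _root_.Cfsg.Agent.KOe586092.k10; funext a0 a1; refine (congrFun (_root_.Cfsg.Agent.KOe586092.e8 (fun a0 a1 => @List.range.loop a0 a1) ?_ (fun c0 => ?_) a0) a1 :) <;> (rfl')
private noncomputable def _root_.Cfsg.Agent.KOe586092.k11 : (by first | exact type_of% @Cfsg.Agent.OrdDiv.candAlt | exact Unit : Sort _) := by first | (refine @Subtype.val _ (fun g => @Cfsg.Agent.OrdDiv.candAlt = @g) (@Subtype.mk _ _ (@(fun x0 x1 => @Cfsg.Agent.KOe586092.k4.{0} _ (@Cfsg.Agent.KOe586092.k5.{0, 0} _ _ @(fun x2 => @Cfsg.Agent.KOe586092.k6.{1} (@List.{0} ℕ) (@Nat.beq (@Prod.fst.{0, 0} _ _ @x2) (nat_lit 2)) [] (@Cfsg.Agent.KOe586092.k7.{0} _ @(fun x3 => @Bool.rec.{1} @(fun x4 => @Bool) @Bool.false (@Cfsg.Agent.KOe586092.k0.{1} @Bool (@Nat.mod (@Nat.mul (nat_lit 2) @x1) (@Cfsg.Agent.KOe586092.k9 @x3)) (nat_lit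 0) @Bool.false @Bool.true) (@Nat.ble (nat_lit 5) @x3)) (@Cfsg.Agent.KOe586092.k10 (@Nat.add (@Nat.mul (nat_lit 2) (@Prod.snd.{0, 0} _ _ @x2)) (nat_lit 4)) []))) @x0))) ?_); rewrite [← Cfsg.Agent.KOe586092.e10, ← Cfsg.Agent.KOe586092.e9, ← Cfsg.Agent.KOe586092.e0.{1}, ← Cfsg.Agent.KOe586092.e7.{0}, ← Cfsg.Agent.KOe586092.e6.{1}, ← Cfsg.Agent.KOe586092.e5.{0, 0}, ← Cfsg.Agent.KOe586092.e4.{0}]; rfl') | exact @Cfsg.Agent.OrdDiv.candAlt | exact ()
private theorem _root_.Cfsg.Agent.KOe586092.e11 : (by first | exact @Cfsg.Agent.OrdDiv.candAlt = @_root_.Cfsg.Agent.KOe586092.k11 | exact True : Prop) := by first | (delta _root_.Cfsg.Agent.KOe586092.k11; exact @Subtype.property _ (fun g => @Cfsg.Agent.OrdDiv.candAlt = @g) _) | rfl | trivial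
private noncomputable def _root_.Cfsg.Agent.KOe586092.k12 : (by first | exact type_of% @Cfsg.Agent.OrdDiv.box | exact Unit : Sort _) := by first | (refine @Subtype.val _ (fun g => @Cfsg.Agent.OrdDiv.box = @g) (@Subtype.mk _ _ (@(fun x0 x1 x2 => @Cfsg.Agent.KOe586092.k4.{0} _ (@Cfsg.Agent.KOe586092.k5.{0, 0} _ _ @(fun x3 => @Cfsg.Agent.KOe586092.k4.{0} _ (@Cfsg.Agent.KOe586092.k5.{0, 0} _ _ @(fun x4 => @Cfsg.Agent.KOe586092.k5.{0, 0} _ _ @(fun x5 => (@x5, @Nat.pow (@Prod.fst.{0, 0} _ _ @x3) (@Nat.add @x4 (nat_lit 1)))) (@Cfsg.Agent.KOe586092.k7.{0} _ @(fun x5 => @Bool.rec.{1} @(fun x6 => @Bool) @Bool.false (@Nat.ble (@Nat.mul (@x1 @x5) (@Nat.add @x4 (nat_lit 1))) (@Prod.snd.{0, 0} _ _ @x3)) (@Nat.ble @x2 @x5)) (@Cfsg.Agent.KOe586092.k10 (@Nat.add (@Prod.snd.{0, 0} _ _ @x3) (nat_lit 2)) []))) (@Cfsg.Agent.KOe586092.k10 (@Prod.snd.{0, 0} _ _ @x3) []))) @x0))) ?_); rewrite [← Cfsg.Agent.KOe586092.e10, ← Cfsg.Agent.KOe586092.e7.{0},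 ← Cfsg.Agent.KOe586092.e5.{0, 0}, ← Cfsg.Agent.KOe586092.e4.{0}]; rfl') | exact @Cfsg.Agent.OrdDiv.box | exact ()
private theorem _root_.Cfsg.Agent.KOe586092.e12 : (by first | exact @Cfsg.Agent.OrdDiv.box = @_root_.Cfsg.Agent.KOe586092.k12 | exact True : Prop) := by first | (delta _root_.Cfsg.Agent.KOe586092.k12; exact @Subtype.property _ (fun g => @Cfsg.Agent.OrdDiv.box = @g) _) | rfl | trivial
private noncomputable def _root_.Cfsg.Agent.KOe586092.k13 : (by first | exact type_of% @Cfsg.Agent.OrdDiv.cand | exact Unit : Sort _) := by first | (refine @Subtype.val _ (fun g => @Cfsg.Agent.OrdDiv.cand = @g) (@Subtype.mk _ _ (@(fun x0 x1 x2 => @Cfsg.Agent.KOe586092.k7.{0} _ @(fun x3 => @Bool.rec.{1} @(fun x4 => @Bool) @Bool.false (@Cfsg.Agent.KOe586092.k0.{1} @Bool (@Nat.mod (@Nat.mul (@Cfsg.Agent.OrdDiv.Fam.den @x2 (@Prod.fst.{0, 0} _ _ @x3) (@Prod.snd.{0, 0} _ _ @x3)) @x1) (@Cfsg.Agent.OrdDiv.Fam.num @x2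 (@Prod.fst.{0, 0} _ _ @x3) (@Prod.snd.{0, 0} _ _ @x3))) (nat_lit 0) @Bool.false @Bool.true) (@Cfsg.Agent.OrdDiv.Fam.ok @x2 (@Prod.fst.{0, 0} _ _ @x3) (@Prod.snd.{0, 0} _ _ @x3))) (@Cfsg.Agent.KOe586092.k12 @x0 (@Cfsg.Agent.OrdDiv.Fam.e @x2) (@Cfsg.Agent.OrdDiv.Fam.lo @x2)))) ?_); rewrite [← Cfsg.Agent.KOe586092.e12, ← Cfsg.Agent.KOe586092.e0.{1}, ← Cfsg.Agent.KOe586092.e7.{0}]; (try delta Cfsg.Agent.OrdDiv.cand); (try generalize @Cfsg.Agent.OrdDiv.box = g0); rfl') | exact @Cfsg.Agent.OrdDiv.cand | exact ()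
private theorem _root_.Cfsg.Agent.KOe586092.e13 : (by first | exact @Cfsg.Agent.OrdDiv.cand = @_root_.Cfsg.Agent.KOe586092.k13 | exact True : Prop) := by first | (delta _root_.Cfsg.Agent.KOe586092.k13; exact @Subtype.property _ (fun g => @Cfsg.Agent.OrdDiv.cand = @g) _) | rfl | trivial
private noncomputable def _root_.Cfsg.Agent.KOe586092.k14 : (by first | exact type_of% @Cfsg.Agent.OrdDiv.cands | exact Unit : Sort _) := by first | (refine @Subtype.val _ (fun g => @Cfsg.Agent.OrdDiv.cands = @g) (@Subtype.mk _ _ (@(fun x0 x1 => @Cfsg.Agent.KOe586092.k4.{0} _ ((@Cfsg.Agent.KOe586092.k5.{0, 0} _ _ @Cfsg.Agent.OrdDiv.Grp.alt (@Cfsg.Agent.KOe586092.k11 @x0 @x1)) :: ((@Cfsg.Agent.KOe586092.k5.{0, 0} _ _ @(fun x2 => @Cfsg.Agent.OrdDiv.Grp.psl (@Prod.fst.{0, 0} _ _ @x2) (@Prod.snd.{0, 0} _ _ @x2)) (@Cfsg.Agent.KOe586092.k13 @x0 @x1 @Cfsg.Agent.OrdDiv.fPSL)) :: ((@Cfsg.Agent.KOe586092.k5.{0, 0} _ _ @(fun x2 =>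 @Cfsg.Agent.OrdDiv.Grp.psp (@Prod.fst.{0, 0} _ _ @x2) (@Prod.snd.{0, 0} _ _ @x2)) (@Cfsg.Agent.KOe586092.k13 @x0 @x1 @Cfsg.Agent.OrdDiv.fPSp)) :: ((@Cfsg.Agent.KOe586092.k5.{0, 0} _ _ @(fun x2 => @Cfsg.Agent.OrdDiv.Grp.psu (@Prod.fst.{0, 0} _ _ @x2) (@Prod.snd.{0, 0} _ _ @x2)) (@Cfsg.Agent.KOe586092.k13 @x0 @x1 @Cfsg.Agent.OrdDiv.fPSU)) :: ((@Cfsg.Agent.KOe586092.k5.{0, 0} _ _ @(fun x2 => @Cfsg.Agent.OrdDiv.Grp.oodd (@Prod.fst.{0, 0} _ _ @x2) (@Prod.snd.{0, 0} _ _ @x2)) (@Cfsg.Agent.KOe586092.k13 @x0 @x1 @Cfsg.Agent.OrdDiv.fOOdd)) :: ((@Cfsg.Agent.KOe586092.k5.{0, 0} _ _ @(fun x2 => @Cfsg.Agent.OrdDiv.Grp.oplus (@Prod.fst.{0, 0} _ _ @x2) (@Prod.snd.{0, 0} _ _ @x2)) (@Cfsg.Agent.KOe586092.k13 @x0 @x1 @Cfsg.Agent.OrdDiv.fOPlus)) :: ((@Cfsg.Agent.KOe586092.k5.{0, 0} _ _ @(fun x2 => @Cfsg.Agent.OrdDiv.Grp.ominus (@Prod.fst.{0, 0} _ _ @x2) (@Prod.snd.{0, 0} _ _ @x2)) (@Cfsg.Agent.KOe586092.k13 @x0 @x1 @Cfsg.Agent.OrdDiv.fOMinus))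 :: ((@Cfsg.Agent.KOe586092.k5.{0, 0} _ _ @(fun x2 => @Cfsg.Agent.OrdDiv.Grp.g2 (@Prod.snd.{0, 0} _ _ @x2)) (@Cfsg.Agent.KOe586092.k13 @x0 @x1 @Cfsg.Agent.OrdDiv.fG2)) :: ((@Cfsg.Agent.KOe586092.k5.{0, 0} _ _ @(fun x2 => @Cfsg.Agent.OrdDiv.Grp.f4 (@Prod.snd.{0, 0} _ _ @x2)) (@Cfsg.Agent.KOe586092.k13 @x0 @x1 @Cfsg.Agent.OrdDiv.fF4)) :: ((@Cfsg.Agent.KOe586092.k5.{0, 0} _ _ @(fun x2 => @Cfsg.Agent.OrdDiv.Grp.e6 (@Prod.snd.{0, 0} _ _ @x2)) (@Cfsg.Agent.KOe586092.k13 @x0 @x1 @Cfsg.Agent.OrdDiv.fE6)) :: ((@Cfsg.Agent.KOe586092.k5.{0, 0} _ _ @(fun x2 => @Cfsg.Agent.OrdDiv.Grp.e7 (@Prod.snd.{0, 0} _ _ @x2)) (@Cfsg.Agent.KOe586092.k13 @x0 @x1 @Cfsg.Agent.OrdDiv.fE7)) :: ((@Cfsg.Agent.KOe586092.k5.{0, 0} _ _ @(fun x2 => @Cfsg.Agent.OrdDiv.Grp.e8 (@Prod.snd.{0, 0} _ _ @x2)) (@Cfsg.Agent.KOe586092.k13 @x0 @x1 @Cfsg.Agent.OrdDiv.fE8)) :: ((@Cfsg.Agent.KOe586092.k5.{0, 0} _ _ @(fun x2 => @Cfsg.Agent.OrdDiv.Grp.te6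 (@Prod.snd.{0, 0} _ _ @x2)) (@Cfsg.Agent.KOe586092.k13 @x0 @x1 @Cfsg.Agent.OrdDiv.fTE6)) :: ((@Cfsg.Agent.KOe586092.k5.{0, 0} _ _ @(fun x2 => @Cfsg.Agent.OrdDiv.Grp.td4 (@Prod.snd.{0, 0} _ _ @x2)) (@Cfsg.Agent.KOe586092.k13 @x0 @x1 @Cfsg.Agent.OrdDiv.fTD4)) :: ((@Cfsg.Agent.KOe586092.k5.{0, 0} _ _ @(fun x2 => @Cfsg.Agent.OrdDiv.Grp.sz (@Prod.snd.{0, 0} _ _ @x2)) (@Cfsg.Agent.KOe586092.k13 @x0 @x1 @Cfsg.Agent.OrdDiv.fSz)) :: ((@Cfsg.Agent.KOe586092.k5.{0, 0} _ _ @(fun x2 => @Cfsg.Agent.OrdDiv.Grp.ree (@Prod.snd.{0, 0} _ _ @x2)) (@Cfsg.Agent.KOe586092.k13 @x0 @x1 @Cfsg.Agent.OrdDiv.fRee)) :: ((@Cfsg.Agent.KOe586092.k5.{0, 0} _ _ @(fun x2 => @Cfsg.Agent.OrdDiv.Grp.tf4 (@Prod.snd.{0, 0} _ _ @x2)) (@Cfsg.Agent.KOe586092.k13 @x0 @x1 @Cfsg.Agent.OrdDiv.fTF4)) :: ((@Cfsg.Agent.KOe586092.k5.{0, 0} _ _ @(fun x2 => @Prod.fst.{0, 0} _ _ @x2) (@Cfsg.Agent.KOe586092.k7.{0} _ @(fun x2 => @Cfsg.Agent.KOe586092.k0.{1}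 @Bool (@Nat.mod @x1 (@Prod.snd.{0, 0} _ _ @x2)) (nat_lit 0) @Bool.false @Bool.true) @Cfsg.Agent.OrdDiv.spor)) :: [])))))))))))))))))))) ?_); rewrite [← Cfsg.Agent.KOe586092.e0.{1}, ← Cfsg.Agent.KOe586092.e7.{0}, ← Cfsg.Agent.KOe586092.e13, ← Cfsg.Agent.KOe586092.e11, ← Cfsg.Agent.KOe586092.e5.{0, 0}, ← Cfsg.Agent.KOe586092.e4.{0}]; (try delta Cfsg.Agent.OrdDiv.cands); (try generalize @Cfsg.Agent.OrdDiv.candAlt = g0); (try generalize @Cfsg.Agent.OrdDiv.cand = g1); (try generalize @Cfsg.Agent.OrdDiv.fPSL = g2); (try generalize @Cfsg.Agent.OrdDiv.fPSp = g3); (try generalize @Cfsg.Agent.OrdDiv.fPSU = g4); (try generalize @Cfsg.Agent.OrdDiv.fOOdd = g5); (try generalize @Cfsg.Agent.OrdDiv.fOPlus = g6); (try generalize @Cfsg.Agent.OrdDiv.fOMinus = g7); (try generalize @Cfsg.Agent.OrdDiv.fG2 = g8); (try generalize @Cfsg.Agent.OrdDiv.fF4 = g9); (try generalize @Cfsg.Agent.OrdDiv.fE6 = g10); (try generalize @Cfsg.Agent.OrdDiv.fE7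 = g11); (try generalize @Cfsg.Agent.OrdDiv.fE8 = g12); (try generalize @Cfsg.Agent.OrdDiv.fTE6 = g13); (try generalize @Cfsg.Agent.OrdDiv.fTD4 = g14); (try generalize @Cfsg.Agent.OrdDiv.fSz = g15); (try generalize @Cfsg.Agent.OrdDiv.fRee = g16); (try generalize @Cfsg.Agent.OrdDiv.fTF4 = g17); (try generalize @Cfsg.Agent.OrdDiv.spor = g18); rfl') | exact @Cfsg.Agent.OrdDiv.cands | exact ()
private theorem _root_.Cfsg.Agent.KOe586092.e14 : (by first | exact @Cfsg.Agent.OrdDiv.cands = @_root_.Cfsg.Agent.KOe586092.k14 | exact True : Prop) := by first | (delta _root_.Cfsg.Agent.KOe586092.k14; exact @Subtype.property _ (fun g => @Cfsg.Agent.OrdDiv.cands = @g) _) | rfl | trivial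
private noncomputable def _root_.Cfsg.Agent.KOe586092.k15.{ku0} : type_of% @List.find?.{ku0} := @(fun x0 x1 x2 => @List.rec.{(ku0+1), ku0} @x0 @(fun x3 => @Option.{ku0} @x0) (@Option.none.{ku0} _) @(fun x3 x4 x5 => @Bool.rec.{(ku0+1)} @(fun x6 => @Option.{ku0} @x0) @x5 (@Option.some.{ku0} _ @x3) (@x1 @x3)) @x2)
private theorem _root_.Cfsg.Agent.KOe586092.e15.{ku0} : @List.find?.{ku0} = @_root_.Cfsg.Agent.KOe586092.k15.{ku0} := by delta _root_.Cfsg.Agent.KOe586092.k15; funext a0 a1 a2; refine (_root_.Cfsg.Agent.KOe586092.e1 (fun a2 => @List.find?.{ku0} a0 a1 a2) ?_ (fun c0 c1 => ?_) a2 :) <;> (rfl')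
private noncomputable def _root_.Cfsg.Agent.KOe586092.k16 : (by first | exact type_of% @Cfsg.Agent.OrdDiv.ordN | exact Unit : Sort _) := by first | (refine @Subtype.val _ (fun g => @Cfsg.Agent.OrdDiv.ordN = @g) (@Subtype.mk _ _ (@(fun x0 => @Cfsg.Agent.OrdDiv.Grp.rec.{1} @(fun x1 => ((@Nat.hasNotBit (nat_lit 131071) (@Cfsg.Agent.OrdDiv.Grp.ctorIdx @x1)) → ℕ) → ℕ) @(fun x1 x2 => @Nat.div (@Cfsg.Agent.KOe586092.k9 @x1) (nat_lit 2)) @(fun x1 x2 x3 => @Nat.div (@Cfsg.Agent.OrdDiv.Fam.num @Cfsg.Agent.OrdDiv.fPSL @x1 @x2) (@Cfsg.Agent.OrdDiv.Fam.den @Cfsg.Agent.OrdDiv.fPSL @x1 @x2)) @(fun x1 x2 x3 => @Nat.div (@Cfsg.Agent.OrdDiv.Fam.num @Cfsg.Agent.OrdDiv.fPSp @x1 @x2) (@Cfsg.Agent.OrdDiv.Fam.den @Cfsg.Agent.OrdDiv.fPSp @x1 @x2)) @(fun x1 x2 x3 => @Nat.div (@Cfsg.Agent.OrdDiv.Fam.num @Cfsg.Agent.OrdDiv.fPSU @x1 @x2) (@Cfsg.Agent.OrdDiv.Fam.den @Cfsg.Agent.OrdDiv.fPSU @x1 @x2)) @(fun x1 x2 x3 => @Nat.div (@Cfsg.Agent.OrdDiv.Fam.num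 @Cfsg.Agent.OrdDiv.fOOdd @x1 @x2) (@Cfsg.Agent.OrdDiv.Fam.den @Cfsg.Agent.OrdDiv.fOOdd @x1 @x2)) @(fun x1 x2 x3 => @Nat.div (@Cfsg.Agent.OrdDiv.Fam.num @Cfsg.Agent.OrdDiv.fOPlus @x1 @x2) (@Cfsg.Agent.OrdDiv.Fam.den @Cfsg.Agent.OrdDiv.fOPlus @x1 @x2)) @(fun x1 x2 x3 => @Nat.div (@Cfsg.Agent.OrdDiv.Fam.num @Cfsg.Agent.OrdDiv.fOMinus @x1 @x2) (@Cfsg.Agent.OrdDiv.Fam.den @Cfsg.Agent.OrdDiv.fOMinus @x1 @x2)) @(fun x1 x2 => @Nat.div (@Cfsg.Agent.OrdDiv.Fam.num @Cfsg.Agent.OrdDiv.fG2 (nat_lit 0) @x1) (@Cfsg.Agent.OrdDiv.Fam.den @Cfsg.Agent.OrdDiv.fG2 (nat_lit 0) @x1)) @(fun x1 x2 => @Nat.div (@Cfsg.Agent.OrdDiv.Fam.num @Cfsg.Agent.OrdDiv.fF4 (nat_lit 0) @x1) (@Cfsg.Agent.OrdDiv.Fam.den @Cfsg.Agent.OrdDiv.fF4 (nat_lit 0) @x1)) @(fun x1 x2 => @Nat.div (@Cfsg.Agent.OrdDiv.Fam.num @Cfsg.Agent.OrdDiv.fE6 (nat_lit 0) @x1) (@Cfsg.Agent.OrdDiv.Fam.den @Cfsg.Agent.OrdDiv.fE6 (nat_lit 0) @x1)) @(fun x1 x2 => @Nat.div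 (@Cfsg.Agent.OrdDiv.Fam.num @Cfsg.Agent.OrdDiv.fE7 (nat_lit 0) @x1) (@Cfsg.Agent.OrdDiv.Fam.den @Cfsg.Agent.OrdDiv.fE7 (nat_lit 0) @x1)) @(fun x1 x2 => @Nat.div (@Cfsg.Agent.OrdDiv.Fam.num @Cfsg.Agent.OrdDiv.fE8 (nat_lit 0) @x1) (@Cfsg.Agent.OrdDiv.Fam.den @Cfsg.Agent.OrdDiv.fE8 (nat_lit 0) @x1)) @(fun x1 x2 => @Nat.div (@Cfsg.Agent.OrdDiv.Fam.num @Cfsg.Agent.OrdDiv.fTE6 (nat_lit 0) @x1) (@Cfsg.Agent.OrdDiv.Fam.den @Cfsg.Agent.OrdDiv.fTE6 (nat_lit 0) @x1)) @(fun x1 x2 => @Nat.div (@Cfsg.Agent.OrdDiv.Fam.num @Cfsg.Agent.OrdDiv.fTD4 (nat_lit 0) @x1) (@Cfsg.Agent.OrdDiv.Fam.den @Cfsg.Agent.OrdDiv.fTD4 (nat_lit 0) @x1)) @(fun x1 x2 => @Nat.div (@Cfsg.Agent.OrdDiv.Fam.num @Cfsg.Agent.OrdDiv.fSz (nat_lit 0) @x1) (@Cfsg.Agent.OrdDiv.Fam.den @Cfsg.Agent.OrdDiv.fSz (nat_lit 0) @x1)) @(fun x1 x2 => @Nat.div (@Cfsg.Agent.OrdDiv.Fam.num @Cfsg.Agent.OrdDiv.fRee (nat_lit 0) @x1) (@Cfsg.Agent.OrdDiv.Fam.den @Cfsg.Agent.OrdDiv.fRee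 (nat_lit 0) @x1)) @(fun x1 x2 => @Nat.div (@Cfsg.Agent.OrdDiv.Fam.num @Cfsg.Agent.OrdDiv.fTF4 (nat_lit 0) @x1) (@Cfsg.Agent.OrdDiv.Fam.den @Cfsg.Agent.OrdDiv.fTF4 (nat_lit 0) @x1)) @(fun x1 => @x1 (@Nat.ne_of_beq_eq_false _ _ (@Eq.refl.{1} _ @Bool.false))) @(fun x1 => @x1 (@Nat.ne_of_beq_eq_false _ _ (@Eq.refl.{1} _ @Bool.false))) @(fun x1 => @x1 (@Nat.ne_of_beq_eq_false _ _ (@Eq.refl.{1} _ @Bool.false))) @(fun x1 => @x1 (@Nat.ne_of_beq_eq_false _ _ (@Eq.refl.{1} _ @Bool.false))) @(fun x1 => @x1 (@Nat.ne_of_beq_eq_false _ _ (@Eq.refl.{1} _ @Bool.false))) @(fun x1 => @x1 (@Nat.ne_of_beq_eq_false _ _ (@Eq.refl.{1} _ @Bool.false))) @(fun x1 => @x1 (@Nat.ne_of_beq_eq_false _ _ (@Eq.refl.{1} _ @Bool.false))) @(fun x1 => @x1 (@Nat.ne_of_beq_eq_false _ _ (@Eq.refl.{1} _ @Bool.false))) @(fun x1 => @x1 (@Nat.ne_of_beq_eq_false _ _ (@Eq.refl.{1} _ @Bool.false))) @(fun x1 => @x1 (@Nat.ne_of_beq_eq_false _ _ (@Eq.refl.{1}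 _ @Bool.false))) @(fun x1 => @x1 (@Nat.ne_of_beq_eq_false _ _ (@Eq.refl.{1} _ @Bool.false))) @(fun x1 => @x1 (@Nat.ne_of_beq_eq_false _ _ (@Eq.refl.{1} _ @Bool.false))) @(fun x1 => @x1 (@Nat.ne_of_beq_eq_false _ _ (@Eq.refl.{1} _ @Bool.false))) @(fun x1 => @x1 (@Nat.ne_of_beq_eq_false _ _ (@Eq.refl.{1} _ @Bool.false))) @(fun x1 => @x1 (@Nat.ne_of_beq_eq_false _ _ (@Eq.refl.{1} _ @Bool.false))) @(fun x1 => @x1 (@Nat.ne_of_beq_eq_false _ _ (@Eq.refl.{1} _ @Bool.false))) @(fun x1 => @x1 (@Nat.ne_of_beq_eq_false _ _ (@Eq.refl.{1} _ @Bool.false))) @(fun x1 => @x1 (@Nat.ne_of_beq_eq_false _ _ (@Eq.refl.{1} _ @Bool.false))) @(fun x1 => @x1 (@Nat.ne_of_beq_eq_false _ _ (@Eq.refl.{1} _ @Bool.false))) @(fun x1 => @x1 (@Nat.ne_of_beq_eq_false _ _ (@Eq.refl.{1} _ @Bool.false))) @(fun x1 => @x1 (@Nat.ne_of_beq_eq_false _ _ (@Eq.refl.{1} _ @Bool.false))) @(fun x1 => @x1 (@Nat.ne_of_beq_eq_false _ _ (@Eq.refl.{1} _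 @Bool.false))) @(fun x1 => @x1 (@Nat.ne_of_beq_eq_false _ _ (@Eq.refl.{1} _ @Bool.false))) @(fun x1 => @x1 (@Nat.ne_of_beq_eq_false _ _ (@Eq.refl.{1} _ @Bool.false))) @(fun x1 => @x1 (@Nat.ne_of_beq_eq_false _ _ (@Eq.refl.{1} _ @Bool.false))) @(fun x1 => @x1 (@Nat.ne_of_beq_eq_false _ _ (@Eq.refl.{1} _ @Bool.false))) @(fun x1 => @x1 (@Nat.ne_of_beq_eq_false _ _ (@Eq.refl.{1} _ @Bool.false))) @x0 @(fun x1 => @Option.rec.{1, 0} ℕ @(fun x2 => ℕ) (nat_lit 0) @(fun x2 => @x2) (@Option.rec.{1, 0} (@Cfsg.Agent.OrdDiv.Grp × ℕ) @(fun x2 => @Option.{0} ℕ) (@Option.none.{0} _) @(fun x2 => @Option.some.{0} _ (@Prod.snd.{0, 0} _ _ @x2)) (@Cfsg.Agent.KOe586092.k15.{0} _ @(fun x2 => @Decidable.rec.{1} _ @(fun x3 => @Bool) @(fun x3 => @Bool.false) @(fun x3 => @Bool.true) (@Cfsg.Agent.OrdDiv.instDecidableEqGrp.decEq (@Prod.fst.{0, 0} _ _ @x2) @x0)) @Cfsg.Agent.OrdDiv.spor))))) ?_); rewrite [← Cfsg.Agent.KOe586092.e15.{0},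 ← Cfsg.Agent.KOe586092.e9]; (try delta Cfsg.Agent.OrdDiv.ordN Cfsg.Agent.OrdDiv.instDecidableEqGrp); (try generalize @Cfsg.Agent.OrdDiv.Grp.ctorIdx = g0); (try generalize @Cfsg.Agent.OrdDiv.fPSL = g1); (try generalize @Cfsg.Agent.OrdDiv.fPSp = g2); (try generalize @Cfsg.Agent.OrdDiv.fPSU = g3); (try generalize @Cfsg.Agent.OrdDiv.fOOdd = g4); (try generalize @Cfsg.Agent.OrdDiv.fOPlus = g5); (try generalize @Cfsg.Agent.OrdDiv.fOMinus = g6); (try generalize @Cfsg.Agent.OrdDiv.fG2 = g7); (try generalize @Cfsg.Agent.OrdDiv.fF4 = g8); (try generalize @Cfsg.Agent.OrdDiv.fE6 = g9); (try generalize @Cfsg.Agent.OrdDiv.fE7 = g10); (try generalize @Cfsg.Agent.OrdDiv.fE8 = g11); (try generalize @Cfsg.Agent.OrdDiv.fTE6 = g12); (try generalize @Cfsg.Agent.OrdDiv.fTD4 = g13); (try generalize @Cfsg.Agent.OrdDiv.fSz = g14); (try generalize @Cfsg.Agent.OrdDiv.fRee = g15); (try generalize @Cfsg.Agent.OrdDiv.fTF4 = g16);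 (try generalize @Cfsg.Agent.OrdDiv.instDecidableEqGrp.decEq = g17); (try generalize @Cfsg.Agent.OrdDiv.spor = g18); rfl') | exact @Cfsg.Agent.OrdDiv.ordN | exact ()
private theorem _root_.Cfsg.Agent.KOe586092.e16 : (by first | exact @Cfsg.Agent.OrdDiv.ordN = @_root_.Cfsg.Agent.KOe586092.k16 | exact True : Prop) := by first | (delta _root_.Cfsg.Agent.KOe586092.k16; exact @Subtype.property _ (fun g => @Cfsg.Agent.OrdDiv.ordN = @g) _) | rfl | trivial
private noncomputable def _root_.Cfsg.Agent.KOe586092.k17.{ku0, ku1} : type_of% @List.foldr.{ku0, ku1} := @(fun x0 x1 x2 x3 x4 => @List.rec.{(ku1+1), ku0} @x0 @(fun x5 => @x1) @x3 @(fun x5 x6 x7 => @x2 @x5 @x7) @x4)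
private theorem _root_.Cfsg.Agent.KOe586092.e17.{ku0, ku1} : @List.foldr.{ku0, ku1} = @_root_.Cfsg.Agent.KOe586092.k17.{ku0, ku1} := by delta _root_.Cfsg.Agent.KOe586092.k17; funext a0 a1 a2 a3 a4; refine (_root_.Cfsg.Agent.KOe586092.e1 (fun a4 => @List.foldr.{ku0, ku1} a0 a1 a2 a3 a4) ?_ (fun c0 c1 => ?_) a4 :) <;> (rfl')
private noncomputable def _root_.Cfsg.Agent.KOe586092.k18 : (by first | exact type_of% @Cfsg.Agent.OrdDiv.prodl | exact Unit : Sort _) := by first | (refine @Subtype.val _ (fun g => @Cfsg.Agent.OrdDiv.prodl = @g) (@Subtype.mk _ _ (@(fun x0 => @Cfsg.Agent.KOe586092.k17.{0, 0} _ _ @(fun x1 x2 => @Nat.mul @x1 @x2) (nat_lit 1) (@Cfsg.Agent.KOe586092.k5.{0, 0} _ _ @(fun x1 => @Nat.pow (@Prod.fst.{0, 0} _ _ @x1) (@Prod.snd.{0, 0} _ _ @x1)) @x0))) ?_); rewrite [← Cfsg.Agent.KOe586092.e5.{0, 0}, ← Cfsg.Agent.KOe586092.e17.{0, 0}]; rfl') | exact @Cfsg.Agent.OrdDiv.prodl | exact ()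
private theorem _root_.Cfsg.Agent.KOe586092.e18 : (by first | exact @Cfsg.Agent.OrdDiv.prodl = @_root_.Cfsg.Agent.KOe586092.k18 | exact True : Prop) := by first | (delta _root_.Cfsg.Agent.KOe586092.k18; exact @Subtype.property _ (fun g => @Cfsg.Agent.OrdDiv.prodl = @g) _) | rfl | trivial
private noncomputable def _root_.Cfsg.Agent.KOe586092.k19 : (by first | exact type_of% @Cfsg.Agent.OrdDiv.isPrimeB | exact Unit : Sort _) := by first | (refine @Subtype.val _ (fun g => @Cfsg.Agent.OrdDiv.isPrimeB = @g) (@Subtype.mk _ _ (@(fun x0 => @Bool.rec.{1} @(fun x1 => @Bool) @Bool.false (@Cfsg.Agent.KOe586092.k2.{0} _ (@Cfsg.Agent.KOe586092.k10 @x0 []) @(fun x1 => @Bool.rec.{1} @(fun x2 => @Bool) (@Bool.rec.{1} @(fun x2 => @Bool) @Bool.true @Bool.false (@Cfsg.Agent.KOe586092.k0.{1} @Bool (@Nat.mod @x0 @x1) (nat_lit 0) @Bool.false @Bool.true)) @Bool.true (@Nat.ble (@Nat.succ @x1) (nat_lit 2)))) (@Nat.ble (@Nat.succ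 (nat_lit 1)) @x0))) ?_); rewrite [← Cfsg.Agent.KOe586092.e0.{1}, ← Cfsg.Agent.KOe586092.e10, ← Cfsg.Agent.KOe586092.e2.{0}]; rfl') | exact @Cfsg.Agent.OrdDiv.isPrimeB | exact ()
private theorem _root_.Cfsg.Agent.KOe586092.e19 : (by first | exact @Cfsg.Agent.OrdDiv.isPrimeB = @_root_.Cfsg.Agent.KOe586092.k19 | exact True : Prop) := by first | (delta _root_.Cfsg.Agent.KOe586092.k19; exact @Subtype.property _ (fun g => @Cfsg.Agent.OrdDiv.isPrimeB = @g) _) | rfl | trivial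
private noncomputable def _root_.Cfsg.Agent.KOe586092.k20 : (by first | exact type_of% @Cfsg.Agent.OrdDiv.valid | exact Unit : Sort _) := by first | (refine @Subtype.val _ (fun g => @Cfsg.Agent.OrdDiv.valid = @g) (@Subtype.mk _ _ (@(fun x0 x1 => @Bool.rec.{1} @(fun x2 => @Bool) @Bool.false (@Cfsg.Agent.KOe586092.k0.{1} @Bool (@Cfsg.Agent.KOe586092.k18 @x0) @x1 @Bool.false @Bool.true) (@Cfsg.Agent.KOe586092.k2.{0} _ @x0 @(fun x2 => @Bool.rec.{1} @(fun x3 => @Bool) @Bool.false (@Bool.rec.{1} @(fun x3 => @Bool) @Bool.true @Bool.false (@Cfsg.Agent.KOe586092.k0.{1} @Bool (@Nat.mod @x1 (@Nat.pow (@Prod.fst.{0, 0} _ _ @x2) (@Nat.add (@Prod.snd.{0, 0} _ _ @x2) (nat_lit 1)))) (nat_lit 0) @Bool.false @Bool.true)) (@Cfsg.Agent.KOe586092.k19 (@Prod.fst.{0, 0} _ _ @x2)))))) ?_); rewrite [← Cfsg.Agent.KOe586092.e19, ← Cfsg.Agent.KOe586092.e2.{0}, ← Cfsg.Agent.KOe586092.e18, ← Cfsg.Agent.KOe586092.e0.{1}]; (try delta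 Cfsg.Agent.OrdDiv.valid); (try generalize @Cfsg.Agent.OrdDiv.prodl = g0); (try generalize @Cfsg.Agent.OrdDiv.isPrimeB = g1); rfl') | exact @Cfsg.Agent.OrdDiv.valid | exact ()
private theorem _root_.Cfsg.Agent.KOe586092.e20 : (by first | exact @Cfsg.Agent.OrdDiv.valid = @_root_.Cfsg.Agent.KOe586092.k20 | exact True : Prop) := by first | (delta _root_.Cfsg.Agent.KOe586092.k20; exact @Subtype.property _ (fun g => @Cfsg.Agent.OrdDiv.valid = @g) _) | rfl | trivial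
private noncomputable def _root_.Cfsg.Agent.KOe586092.k21 : (by first | exact type_of% @Cfsg.Agent.H357.Small.chk | exact Unit : Sort _) := by first | (refine @Subtype.val _ (fun g => @Cfsg.Agent.H357.Small.chk = @g) (@Subtype.mk _ _ (@(fun (x0 : @List.{0} (@Prod.{0, 0} @Nat @Nat)) (x1 : @Nat) (x2 : @List.{0} @Nat) => @Bool.rec.{1} @(fun (x3 : @Bool) => @Bool) @Bool.false (@Cfsg.Agent.KOe586092.k2.{0} @Cfsg.Agent.OrdDiv.Grp (@Cfsg.Agent.KOe586092.k14 @x0 @x1) @(fun (x3 : @Cfsg.Agent.OrdDiv.Grp) => @Bool.rec.{1} @(fun (x4 : @Bool) => @Bool) (@Bool.rec.{1} @(fun (x4 : @Bool) => @Bool) @Bool.true @Bool.false (@Cfsg.Agent.KOe586092.k2.{0} @Nat @x2 @(fun (x4 : @Nat) => @Cfsg.Agent.KOe586092.k0.{1} @Bool (@Nat.mod (@Cfsg.Agent.KOe586092.k16 @x3) @x4) (nat_lit 0) @Bool.false @Bool.true))) @Bool.true (@Cfsg.Agent.OrdDiv.Grp.rec.{1} @(fun (x4 : @Cfsg.Agent.OrdDiv.Grp) => (((@Nat.hasNotBit (nat_lit 1) (@Cfsg.Agent.OrdDiv.Grp.ctorIdx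 @x4)) → @Bool) → @Bool)) @(fun (x4 : @Nat) (x5 : ((@Nat.hasNotBit (nat_lit 1) (@Cfsg.Agent.OrdDiv.Grp.ctorIdx (@Cfsg.Agent.OrdDiv.Grp.alt @x4))) → @Bool)) => @Bool.true) @(fun (x4 : @Nat) (x5 : @Nat) (x6 : ((@Nat.hasNotBit (nat_lit 1) (@Cfsg.Agent.OrdDiv.Grp.ctorIdx (@Cfsg.Agent.OrdDiv.Grp.psl @x4 @x5))) → @Bool)) => @x6 (@Nat.ne_of_beq_eq_false (@Nat.land (@OfNat.ofNat.{0} @Nat (nat_lit 1) (@instOfNatNat (nat_lit 1))) (@Nat.shiftRight (nat_lit 1) (nat_lit 1))) (@OfNat.ofNat.{0} @Nat (nat_lit 1) (@instOfNatNat (nat_lit 1))) (@Eq.refl.{1} @Bool @Bool.false))) @(fun (x4 : @Nat) (x5 : @Nat) (x6 : ((@Nat.hasNotBit (nat_lit 1) (@Cfsg.Agent.OrdDiv.Grp.ctorIdx (@Cfsg.Agent.OrdDiv.Grp.psp @x4 @x5))) → @Bool)) => @x6 (@Nat.ne_of_beq_eq_false (@Nat.land (@OfNat.ofNat.{0} @Nat (nat_lit 1) (@instOfNatNat (nat_lit 1))) (@Nat.shiftRight (nat_lit 1) (nat_lit 2))) (@OfNat.ofNat.{0} @Nat (nat_lit 1) (@instOfNatNat (nat_lit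 1))) (@Eq.refl.{1} @Bool @Bool.false))) @(fun (x4 : @Nat) (x5 : @Nat) (x6 : ((@Nat.hasNotBit (nat_lit 1) (@Cfsg.Agent.OrdDiv.Grp.ctorIdx (@Cfsg.Agent.OrdDiv.Grp.psu @x4 @x5))) → @Bool)) => @x6 (@Nat.ne_of_beq_eq_false (@Nat.land (@OfNat.ofNat.{0} @Nat (nat_lit 1) (@instOfNatNat (nat_lit 1))) (@Nat.shiftRight (nat_lit 1) (nat_lit 3))) (@OfNat.ofNat.{0} @Nat (nat_lit 1) (@instOfNatNat (nat_lit 1))) (@Eq.refl.{1} @Bool @Bool.false))) @(fun (x4 : @Nat) (x5 : @Nat) (x6 : ((@Nat.hasNotBit (nat_lit 1) (@Cfsg.Agent.OrdDiv.Grp.ctorIdx (@Cfsg.Agent.OrdDiv.Grp.oodd @x4 @x5))) → @Bool)) => @x6 (@Nat.ne_of_beq_eq_false (@Nat.land (@OfNat.ofNat.{0} @Nat (nat_lit 1) (@instOfNatNat (nat_lit 1))) (@Nat.shiftRight (nat_lit 1) (nat_lit 4))) (@OfNat.ofNat.{0} @Nat (nat_lit 1) (@instOfNatNat (nat_lit 1))) (@Eq.refl.{1} @Bool @Bool.false))) @(fun (x4 : @Nat) (x5 : @Nat) (x6 : ((@Nat.hasNotBit (nat_lit 1) (@Cfsg.Agent.OrdDiv.Grp.ctorIdx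 (@Cfsg.Agent.OrdDiv.Grp.oplus @x4 @x5))) → @Bool)) => @x6 (@Nat.ne_of_beq_eq_false (@Nat.land (@OfNat.ofNat.{0} @Nat (nat_lit 1) (@instOfNatNat (nat_lit 1))) (@Nat.shiftRight (nat_lit 1) (nat_lit 5))) (@OfNat.ofNat.{0} @Nat (nat_lit 1) (@instOfNatNat (nat_lit 1))) (@Eq.refl.{1} @Bool @Bool.false))) @(fun (x4 : @Nat) (x5 : @Nat) (x6 : ((@Nat.hasNotBit (nat_lit 1) (@Cfsg.Agent.OrdDiv.Grp.ctorIdx (@Cfsg.Agent.OrdDiv.Grp.ominus @x4 @x5))) → @Bool)) => @x6 (@Nat.ne_of_beq_eq_false (@Nat.land (@OfNat.ofNat.{0} @Nat (nat_lit 1) (@instOfNatNat (nat_lit 1))) (@Nat.shiftRight (nat_lit 1) (nat_lit 6))) (@OfNat.ofNat.{0} @Nat (nat_lit 1) (@instOfNatNat (nat_lit 1))) (@Eq.refl.{1} @Bool @Bool.false))) @(fun (x4 : @Nat) (x5 : ((@Nat.hasNotBit (nat_lit 1) (@Cfsg.Agent.OrdDiv.Grp.ctorIdx (@Cfsg.Agent.OrdDiv.Grp.g2 @x4))) → @Bool)) => @x5 (@Nat.ne_of_beq_eq_false (@Nat.land (@OfNat.ofNat.{0} @Nat (nat_lit 1) (@instOfNatNat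 (nat_lit 1))) (@Nat.shiftRight (nat_lit 1) (nat_lit 7))) (@OfNat.ofNat.{0} @Nat (nat_lit 1) (@instOfNatNat (nat_lit 1))) (@Eq.refl.{1} @Bool @Bool.false))) @(fun (x4 : @Nat) (x5 : ((@Nat.hasNotBit (nat_lit 1) (@Cfsg.Agent.OrdDiv.Grp.ctorIdx (@Cfsg.Agent.OrdDiv.Grp.f4 @x4))) → @Bool)) => @x5 (@Nat.ne_of_beq_eq_false (@Nat.land (@OfNat.ofNat.{0} @Nat (nat_lit 1) (@instOfNatNat (nat_lit 1))) (@Nat.shiftRight (nat_lit 1) (nat_lit 8))) (@OfNat.ofNat.{0} @Nat (nat_lit 1) (@instOfNatNat (nat_lit 1))) (@Eq.refl.{1} @Bool @Bool.false))) @(fun (x4 : @Nat) (x5 : ((@Nat.hasNotBit (nat_lit 1) (@Cfsg.Agent.OrdDiv.Grp.ctorIdx (@Cfsg.Agent.OrdDiv.Grp.e6 @x4))) → @Bool)) => @x5 (@Nat.ne_of_beq_eq_false (@Nat.land (@OfNat.ofNat.{0} @Nat (nat_lit 1) (@instOfNatNat (nat_lit 1))) (@Nat.shiftRight (nat_lit 1) (nat_lit 9))) (@OfNat.ofNat.{0} @Nat (nat_lit 1) (@instOfNatNat (nat_lit 1))) (@Eq.refl.{1} @Bool @Bool.false))) @(fun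 (x4 : @Nat) (x5 : ((@Nat.hasNotBit (nat_lit 1) (@Cfsg.Agent.OrdDiv.Grp.ctorIdx (@Cfsg.Agent.OrdDiv.Grp.e7 @x4))) → @Bool)) => @x5 (@Nat.ne_of_beq_eq_false (@Nat.land (@OfNat.ofNat.{0} @Nat (nat_lit 1) (@instOfNatNat (nat_lit 1))) (@Nat.shiftRight (nat_lit 1) (nat_lit 10))) (@OfNat.ofNat.{0} @Nat (nat_lit 1) (@instOfNatNat (nat_lit 1))) (@Eq.refl.{1} @Bool @Bool.false))) @(fun (x4 : @Nat) (x5 : ((@Nat.hasNotBit (nat_lit 1) (@Cfsg.Agent.OrdDiv.Grp.ctorIdx (@Cfsg.Agent.OrdDiv.Grp.e8 @x4))) → @Bool)) => @x5 (@Nat.ne_of_beq_eq_false (@Nat.land (@OfNat.ofNat.{0} @Nat (nat_lit 1) (@instOfNatNat (nat_lit 1))) (@Nat.shiftRight (nat_lit 1) (nat_lit 11))) (@OfNat.ofNat.{0} @Nat (nat_lit 1) (@instOfNatNat (nat_lit 1))) (@Eq.refl.{1} @Bool @Bool.false))) @(fun (x4 : @Nat) (x5 : ((@Nat.hasNotBit (nat_lit 1) (@Cfsg.Agent.OrdDiv.Grp.ctorIdx (@Cfsg.Agent.OrdDiv.Grp.te6 @x4))) → @Bool)) => @x5 (@Nat.ne_of_beq_eq_false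 (@Nat.land (@OfNat.ofNat.{0} @Nat (nat_lit 1) (@instOfNatNat (nat_lit 1))) (@Nat.shiftRight (nat_lit 1) (nat_lit 12))) (@OfNat.ofNat.{0} @Nat (nat_lit 1) (@instOfNatNat (nat_lit 1))) (@Eq.refl.{1} @Bool @Bool.false))) @(fun (x4 : @Nat) (x5 : ((@Nat.hasNotBit (nat_lit 1) (@Cfsg.Agent.OrdDiv.Grp.ctorIdx (@Cfsg.Agent.OrdDiv.Grp.td4 @x4))) → @Bool)) => @x5 (@Nat.ne_of_beq_eq_false (@Nat.land (@OfNat.ofNat.{0} @Nat (nat_lit 1) (@instOfNatNat (nat_lit 1))) (@Nat.shiftRight (nat_lit 1) (nat_lit 13))) (@OfNat.ofNat.{0} @Nat (nat_lit 1) (@instOfNatNat (nat_lit 1))) (@Eq.refl.{1} @Bool @Bool.false))) @(fun (x4 : @Nat) (x5 : ((@Nat.hasNotBit (nat_lit 1) (@Cfsg.Agent.OrdDiv.Grp.ctorIdx (@Cfsg.Agent.OrdDiv.Grp.sz @x4))) → @Bool)) => @x5 (@Nat.ne_of_beq_eq_false (@Nat.land (@OfNat.ofNat.{0} @Nat (nat_lit 1) (@instOfNatNat (nat_lit 1))) (@Nat.shiftRight (nat_lit 1) (nat_lit 14))) (@OfNat.ofNat.{0} @Nat (nat_lit 1) (@instOfNatNat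 (nat_lit 1))) (@Eq.refl.{1} @Bool @Bool.false))) @(fun (x4 : @Nat) (x5 : ((@Nat.hasNotBit (nat_lit 1) (@Cfsg.Agent.OrdDiv.Grp.ctorIdx (@Cfsg.Agent.OrdDiv.Grp.ree @x4))) → @Bool)) => @x5 (@Nat.ne_of_beq_eq_false (@Nat.land (@OfNat.ofNat.{0} @Nat (nat_lit 1) (@instOfNatNat (nat_lit 1))) (@Nat.shiftRight (nat_lit 1) (nat_lit 15))) (@OfNat.ofNat.{0} @Nat (nat_lit 1) (@instOfNatNat (nat_lit 1))) (@Eq.refl.{1} @Bool @Bool.false))) @(fun (x4 : @Nat) (x5 : ((@Nat.hasNotBit (nat_lit 1) (@Cfsg.Agent.OrdDiv.Grp.ctorIdx (@Cfsg.Agent.OrdDiv.Grp.tf4 @x4))) → @Bool)) => @x5 (@Nat.ne_of_beq_eq_false (@Nat.land (@OfNat.ofNat.{0} @Nat (nat_lit 1) (@instOfNatNat (nat_lit 1))) (@Nat.shiftRight (nat_lit 1) (nat_lit 16))) (@OfNat.ofNat.{0} @Nat (nat_lit 1) (@instOfNatNat (nat_lit 1))) (@Eq.refl.{1} @Bool @Bool.false))) @(fun (x4 : ((@Nat.hasNotBit (nat_lit 1) (@Cfsg.Agent.OrdDiv.Grp.ctorIdx @Cfsg.Agent.OrdDiv.Grp.tits)) →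 @Bool)) => @x4 (@Nat.ne_of_beq_eq_false (@Nat.land (@OfNat.ofNat.{0} @Nat (nat_lit 1) (@instOfNatNat (nat_lit 1))) (@Nat.shiftRight (nat_lit 1) (nat_lit 17))) (@OfNat.ofNat.{0} @Nat (nat_lit 1) (@instOfNatNat (nat_lit 1))) (@Eq.refl.{1} @Bool @Bool.false))) @(fun (x4 : ((@Nat.hasNotBit (nat_lit 1) (@Cfsg.Agent.OrdDiv.Grp.ctorIdx @Cfsg.Agent.OrdDiv.Grp.m11)) → @Bool)) => @x4 (@Nat.ne_of_beq_eq_false (@Nat.land (@OfNat.ofNat.{0} @Nat (nat_lit 1) (@instOfNatNat (nat_lit 1))) (@Nat.shiftRight (nat_lit 1) (nat_lit 18))) (@OfNat.ofNat.{0} @Nat (nat_lit 1) (@instOfNatNat (nat_lit 1))) (@Eq.refl.{1} @Bool @Bool.false))) @(fun (x4 : ((@Nat.hasNotBit (nat_lit 1) (@Cfsg.Agent.OrdDiv.Grp.ctorIdx @Cfsg.Agent.OrdDiv.Grp.m12)) → @Bool)) => @x4 (@Nat.ne_of_beq_eq_false (@Nat.land (@OfNat.ofNat.{0} @Nat (nat_lit 1) (@instOfNatNat (nat_lit 1))) (@Nat.shiftRight (nat_lit 1) (nat_lit 19))) (@OfNat.ofNat.{0} @Nat (nat_lit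 1) (@instOfNatNat (nat_lit 1))) (@Eq.refl.{1} @Bool @Bool.false))) @(fun (x4 : ((@Nat.hasNotBit (nat_lit 1) (@Cfsg.Agent.OrdDiv.Grp.ctorIdx @Cfsg.Agent.OrdDiv.Grp.m22)) → @Bool)) => @x4 (@Nat.ne_of_beq_eq_false (@Nat.land (@OfNat.ofNat.{0} @Nat (nat_lit 1) (@instOfNatNat (nat_lit 1))) (@Nat.shiftRight (nat_lit 1) (nat_lit 20))) (@OfNat.ofNat.{0} @Nat (nat_lit 1) (@instOfNatNat (nat_lit 1))) (@Eq.refl.{1} @Bool @Bool.false))) @(fun (x4 : ((@Nat.hasNotBit (nat_lit 1) (@Cfsg.Agent.OrdDiv.Grp.ctorIdx @Cfsg.Agent.OrdDiv.Grp.m23)) → @Bool)) => @x4 (@Nat.ne_of_beq_eq_false (@Nat.land (@OfNat.ofNat.{0} @Nat (nat_lit 1) (@instOfNatNat (nat_lit 1))) (@Nat.shiftRight (nat_lit 1) (nat_lit 21))) (@OfNat.ofNat.{0} @Nat (nat_lit 1) (@instOfNatNat (nat_lit 1))) (@Eq.refl.{1} @Bool @Bool.false))) @(fun (x4 : ((@Nat.hasNotBit (nat_lit 1) (@Cfsg.Agent.OrdDiv.Grp.ctorIdx @Cfsg.Agent.OrdDiv.Grp.m24)) → @Bool)) => @x4 (@Nat.ne_of_beq_eq_false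 (@Nat.land (@OfNat.ofNat.{0} @Nat (nat_lit 1) (@instOfNatNat (nat_lit 1))) (@Nat.shiftRight (nat_lit 1) (nat_lit 22))) (@OfNat.ofNat.{0} @Nat (nat_lit 1) (@instOfNatNat (nat_lit 1))) (@Eq.refl.{1} @Bool @Bool.false))) @(fun (x4 : ((@Nat.hasNotBit (nat_lit 1) (@Cfsg.Agent.OrdDiv.Grp.ctorIdx @Cfsg.Agent.OrdDiv.Grp.j1)) → @Bool)) => @x4 (@Nat.ne_of_beq_eq_false (@Nat.land (@OfNat.ofNat.{0} @Nat (nat_lit 1) (@instOfNatNat (nat_lit 1))) (@Nat.shiftRight (nat_lit 1) (nat_lit 23))) (@OfNat.ofNat.{0} @Nat (nat_lit 1) (@instOfNatNat (nat_lit 1))) (@Eq.refl.{1} @Bool @Bool.false))) @(fun (x4 : ((@Nat.hasNotBit (nat_lit 1) (@Cfsg.Agent.OrdDiv.Grp.ctorIdx @Cfsg.Agent.OrdDiv.Grp.j2)) → @Bool)) => @x4 (@Nat.ne_of_beq_eq_false (@Nat.land (@OfNat.ofNat.{0} @Nat (nat_lit 1) (@instOfNatNat (nat_lit 1))) (@Nat.shiftRight (nat_lit 1) (nat_lit 24))) (@OfNat.ofNat.{0} @Nat (nat_lit 1) (@instOfNatNat (nat_lit 1))) (@Eq.refl.{1}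 @Bool @Bool.false))) @(fun (x4 : ((@Nat.hasNotBit (nat_lit 1) (@Cfsg.Agent.OrdDiv.Grp.ctorIdx @Cfsg.Agent.OrdDiv.Grp.j3)) → @Bool)) => @x4 (@Nat.ne_of_beq_eq_false (@Nat.land (@OfNat.ofNat.{0} @Nat (nat_lit 1) (@instOfNatNat (nat_lit 1))) (@Nat.shiftRight (nat_lit 1) (nat_lit 25))) (@OfNat.ofNat.{0} @Nat (nat_lit 1) (@instOfNatNat (nat_lit 1))) (@Eq.refl.{1} @Bool @Bool.false))) @(fun (x4 : ((@Nat.hasNotBit (nat_lit 1) (@Cfsg.Agent.OrdDiv.Grp.ctorIdx @Cfsg.Agent.OrdDiv.Grp.j4)) → @Bool)) => @x4 (@Nat.ne_of_beq_eq_false (@Nat.land (@OfNat.ofNat.{0} @Nat (nat_lit 1) (@instOfNatNat (nat_lit 1))) (@Nat.shiftRight (nat_lit 1) (nat_lit 26))) (@OfNat.ofNat.{0} @Nat (nat_lit 1) (@instOfNatNat (nat_lit 1))) (@Eq.refl.{1} @Bool @Bool.false))) @(fun (x4 : ((@Nat.hasNotBit (nat_lit 1) (@Cfsg.Agent.OrdDiv.Grp.ctorIdx @Cfsg.Agent.OrdDiv.Grp.co1)) → @Bool)) => @x4 (@Nat.ne_of_beq_eq_false (@Nat.land (@OfNat.ofNat.{0}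 @Nat (nat_lit 1) (@instOfNatNat (nat_lit 1))) (@Nat.shiftRight (nat_lit 1) (nat_lit 27))) (@OfNat.ofNat.{0} @Nat (nat_lit 1) (@instOfNatNat (nat_lit 1))) (@Eq.refl.{1} @Bool @Bool.false))) @(fun (x4 : ((@Nat.hasNotBit (nat_lit 1) (@Cfsg.Agent.OrdDiv.Grp.ctorIdx @Cfsg.Agent.OrdDiv.Grp.co2)) → @Bool)) => @x4 (@Nat.ne_of_beq_eq_false (@Nat.land (@OfNat.ofNat.{0} @Nat (nat_lit 1) (@instOfNatNat (nat_lit 1))) (@Nat.shiftRight (nat_lit 1) (nat_lit 28))) (@OfNat.ofNat.{0} @Nat (nat_lit 1) (@instOfNatNat (nat_lit 1))) (@Eq.refl.{1} @Bool @Bool.false))) @(fun (x4 : ((@Nat.hasNotBit (nat_lit 1) (@Cfsg.Agent.OrdDiv.Grp.ctorIdx @Cfsg.Agent.OrdDiv.Grp.co3)) → @Bool)) => @x4 (@Nat.ne_of_beq_eq_false (@Nat.land (@OfNat.ofNat.{0} @Nat (nat_lit 1) (@instOfNatNat (nat_lit 1))) (@Nat.shiftRight (nat_lit 1) (nat_lit 29))) (@OfNat.ofNat.{0} @Nat (nat_lit 1) (@instOfNatNat (nat_lit 1))) (@Eq.refl.{1} @Bool @Bool.false))) @(fun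 (x4 : ((@Nat.hasNotBit (nat_lit 1) (@Cfsg.Agent.OrdDiv.Grp.ctorIdx @Cfsg.Agent.OrdDiv.Grp.mcl)) → @Bool)) => @x4 (@Nat.ne_of_beq_eq_false (@Nat.land (@OfNat.ofNat.{0} @Nat (nat_lit 1) (@instOfNatNat (nat_lit 1))) (@Nat.shiftRight (nat_lit 1) (nat_lit 30))) (@OfNat.ofNat.{0} @Nat (nat_lit 1) (@instOfNatNat (nat_lit 1))) (@Eq.refl.{1} @Bool @Bool.false))) @(fun (x4 : ((@Nat.hasNotBit (nat_lit 1) (@Cfsg.Agent.OrdDiv.Grp.ctorIdx @Cfsg.Agent.OrdDiv.Grp.hs)) → @Bool)) => @x4 (@Nat.ne_of_beq_eq_false (@Nat.land (@OfNat.ofNat.{0} @Nat (nat_lit 1) (@instOfNatNat (nat_lit 1))) (@Nat.shiftRight (nat_lit 1) (nat_lit 31))) (@OfNat.ofNat.{0} @Nat (nat_lit 1) (@instOfNatNat (nat_lit 1))) (@Eq.refl.{1} @Bool @Bool.false))) @(fun (x4 : ((@Nat.hasNotBit (nat_lit 1) (@Cfsg.Agent.OrdDiv.Grp.ctorIdx @Cfsg.Agent.OrdDiv.Grp.suz)) → @Bool)) => @x4 (@Nat.ne_of_beq_eq_false (@Nat.land (@OfNat.ofNat.{0} @Nat (nat_lit 1) (@instOfNatNat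 (nat_lit 1))) (@Nat.shiftRight (nat_lit 1) (nat_lit 32))) (@OfNat.ofNat.{0} @Nat (nat_lit 1) (@instOfNatNat (nat_lit 1))) (@Eq.refl.{1} @Bool @Bool.false))) @(fun (x4 : ((@Nat.hasNotBit (nat_lit 1) (@Cfsg.Agent.OrdDiv.Grp.ctorIdx @Cfsg.Agent.OrdDiv.Grp.he)) → @Bool)) => @x4 (@Nat.ne_of_beq_eq_false (@Nat.land (@OfNat.ofNat.{0} @Nat (nat_lit 1) (@instOfNatNat (nat_lit 1))) (@Nat.shiftRight (nat_lit 1) (nat_lit 33))) (@OfNat.ofNat.{0} @Nat (nat_lit 1) (@instOfNatNat (nat_lit 1))) (@Eq.refl.{1} @Bool @Bool.false))) @(fun (x4 : ((@Nat.hasNotBit (nat_lit 1) (@Cfsg.Agent.OrdDiv.Grp.ctorIdx @Cfsg.Agent.OrdDiv.Grp.ru)) → @Bool)) => @x4 (@Nat.ne_of_beq_eq_false (@Nat.land (@OfNat.ofNat.{0} @Nat (nat_lit 1) (@instOfNatNat (nat_lit 1))) (@Nat.shiftRight (nat_lit 1) (nat_lit 34))) (@OfNat.ofNat.{0} @Nat (nat_lit 1) (@instOfNatNat (nat_lit 1))) (@Eq.refl.{1} @Bool @Bool.false))) @(fun (x4 : ((@Nat.hasNotBit (nat_lit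 1) (@Cfsg.Agent.OrdDiv.Grp.ctorIdx @Cfsg.Agent.OrdDiv.Grp.on)) → @Bool)) => @x4 (@Nat.ne_of_beq_eq_false (@Nat.land (@OfNat.ofNat.{0} @Nat (nat_lit 1) (@instOfNatNat (nat_lit 1))) (@Nat.shiftRight (nat_lit 1) (nat_lit 35))) (@OfNat.ofNat.{0} @Nat (nat_lit 1) (@instOfNatNat (nat_lit 1))) (@Eq.refl.{1} @Bool @Bool.false))) @(fun (x4 : ((@Nat.hasNotBit (nat_lit 1) (@Cfsg.Agent.OrdDiv.Grp.ctorIdx @Cfsg.Agent.OrdDiv.Grp.ly)) → @Bool)) => @x4 (@Nat.ne_of_beq_eq_false (@Nat.land (@OfNat.ofNat.{0} @Nat (nat_lit 1) (@instOfNatNat (nat_lit 1))) (@Nat.shiftRight (nat_lit 1) (nat_lit 36))) (@OfNat.ofNat.{0} @Nat (nat_lit 1) (@instOfNatNat (nat_lit 1))) (@Eq.refl.{1} @Bool @Bool.false))) @(fun (x4 : ((@Nat.hasNotBit (nat_lit 1) (@Cfsg.Agent.OrdDiv.Grp.ctorIdx @Cfsg.Agent.OrdDiv.Grp.fi22)) → @Bool)) => @x4 (@Nat.ne_of_beq_eq_false (@Nat.land (@OfNat.ofNat.{0} @Nat (nat_lit 1) (@instOfNatNat (nat_lit 1))) (@Nat.shiftRight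 (nat_lit 1) (nat_lit 37))) (@OfNat.ofNat.{0} @Nat (nat_lit 1) (@instOfNatNat (nat_lit 1))) (@Eq.refl.{1} @Bool @Bool.false))) @(fun (x4 : ((@Nat.hasNotBit (nat_lit 1) (@Cfsg.Agent.OrdDiv.Grp.ctorIdx @Cfsg.Agent.OrdDiv.Grp.fi23)) → @Bool)) => @x4 (@Nat.ne_of_beq_eq_false (@Nat.land (@OfNat.ofNat.{0} @Nat (nat_lit 1) (@instOfNatNat (nat_lit 1))) (@Nat.shiftRight (nat_lit 1) (nat_lit 38))) (@OfNat.ofNat.{0} @Nat (nat_lit 1) (@instOfNatNat (nat_lit 1))) (@Eq.refl.{1} @Bool @Bool.false))) @(fun (x4 : ((@Nat.hasNotBit (nat_lit 1) (@Cfsg.Agent.OrdDiv.Grp.ctorIdx @Cfsg.Agent.OrdDiv.Grp.fi24)) → @Bool)) => @x4 (@Nat.ne_of_beq_eq_false (@Nat.land (@OfNat.ofNat.{0} @Nat (nat_lit 1) (@instOfNatNat (nat_lit 1))) (@Nat.shiftRight (nat_lit 1) (nat_lit 39))) (@OfNat.ofNat.{0} @Nat (nat_lit 1) (@instOfNatNat (nat_lit 1))) (@Eq.refl.{1} @Bool @Bool.false))) @(fun (x4 : ((@Nat.hasNotBit (nat_lit 1) (@Cfsg.Agent.OrdDiv.Grp.ctorIdx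 @Cfsg.Agent.OrdDiv.Grp.hn)) → @Bool)) => @x4 (@Nat.ne_of_beq_eq_false (@Nat.land (@OfNat.ofNat.{0} @Nat (nat_lit 1) (@instOfNatNat (nat_lit 1))) (@Nat.shiftRight (nat_lit 1) (nat_lit 40))) (@OfNat.ofNat.{0} @Nat (nat_lit 1) (@instOfNatNat (nat_lit 1))) (@Eq.refl.{1} @Bool @Bool.false))) @(fun (x4 : ((@Nat.hasNotBit (nat_lit 1) (@Cfsg.Agent.OrdDiv.Grp.ctorIdx @Cfsg.Agent.OrdDiv.Grp.th)) → @Bool)) => @x4 (@Nat.ne_of_beq_eq_false (@Nat.land (@OfNat.ofNat.{0} @Nat (nat_lit 1) (@instOfNatNat (nat_lit 1))) (@Nat.shiftRight (nat_lit 1) (nat_lit 41))) (@OfNat.ofNat.{0} @Nat (nat_lit 1) (@instOfNatNat (nat_lit 1))) (@Eq.refl.{1} @Bool @Bool.false))) @(fun (x4 : ((@Nat.hasNotBit (nat_lit 1) (@Cfsg.Agent.OrdDiv.Grp.ctorIdx @Cfsg.Agent.OrdDiv.Grp.b)) → @Bool)) => @x4 (@Nat.ne_of_beq_eq_false (@Nat.land (@OfNat.ofNat.{0} @Nat (nat_lit 1) (@instOfNatNat (nat_lit 1))) (@Nat.shiftRight (nat_lit 1) (nat_lit 42))) (@OfNat.ofNat.{0}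 @Nat (nat_lit 1) (@instOfNatNat (nat_lit 1))) (@Eq.refl.{1} @Bool @Bool.false))) @(fun (x4 : ((@Nat.hasNotBit (nat_lit 1) (@Cfsg.Agent.OrdDiv.Grp.ctorIdx @Cfsg.Agent.OrdDiv.Grp.m)) → @Bool)) => @x4 (@Nat.ne_of_beq_eq_false (@Nat.land (@OfNat.ofNat.{0} @Nat (nat_lit 1) (@instOfNatNat (nat_lit 1))) (@Nat.shiftRight (nat_lit 1) (nat_lit 43))) (@OfNat.ofNat.{0} @Nat (nat_lit 1) (@instOfNatNat (nat_lit 1))) (@Eq.refl.{1} @Bool @Bool.false))) @x3 @(fun (x4 : @Nat.hasNotBit (nat_lit 1) (@Cfsg.Agent.OrdDiv.Grp.ctorIdx @x3)) => @Bool.false)))) (@Cfsg.Agent.KOe586092.k20 @x0 @x1))) ?_); rewrite [← Cfsg.Agent.KOe586092.e20, ← Cfsg.Agent.KOe586092.e16, ← Cfsg.Agent.KOe586092.e0.{1}, ← Cfsg.Agent.KOe586092.e14, ← Cfsg.Agent.KOe586092.e2.{0}]; (try delta Cfsg.Agent.H357.Small.chk Cfsg.Agent.H357.Small.isAlt); (try generalize @Cfsg.Agent.OrdDiv.cands = g0); (try generalize @Cfsg.Agent.OrdDiv.ordN = g1); (try generalize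 @Cfsg.Agent.OrdDiv.Grp.ctorIdx = g2); (try generalize @Cfsg.Agent.OrdDiv.valid = g3); rfl') | exact @Cfsg.Agent.H357.Small.chk | exact ()
private theorem _root_.Cfsg.Agent.KOe586092.e21 : (by first | exact @Cfsg.Agent.H357.Small.chk = @_root_.Cfsg.Agent.KOe586092.k21 | exact True : Prop) := by first | (delta _root_.Cfsg.Agent.KOe586092.k21; exact @Subtype.property _ (fun g => @Cfsg.Agent.H357.Small.chk = @g) _) | rfl | trivial

theorem chk19 : chk [(2, 19), (3, 9), (5, 4), (7, 3), (11, 2), (13, 1), (17, 1), (19, 1)] 1124000727777607680000 [13, 17, 19] = true := by (first | (rewrite [Cfsg.Agent.KOe586092.e21]; decide +kernel) | decide +kernel)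

theorem chk23 : chk [(2, 25), (3, 13), (5, 6), (7, 4), (11, 2), (13, 2), (17, 1), (19, 1), (23, 1)] 304888344611713860501504000000 [17, 19, 23] = true := by (first | (rewrite [Cfsg.Agent.KOe586092.e21]; decide +kernel) | decide +kernel)

theorem chk29 : chk [(2, 26), (3, 14), (5, 7), (7, 4), (11, 2), (13, 2), (17, 1), (19, 1), (23, 1), (29, 1)] 265252859812191058636308480000000 [17, 19, 23, 29] = true := by (first | (rewrite [Cfsg.Agent.KOe586092.e21]; decide +kernel) | decide +kernel)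

theorem chk31 : chk [(2, 34), (3, 17), (5, 8), (7, 5), (11, 3), (13, 2), (17, 2), (19, 1), (23, 1), (29, 1), (31, 1)] 371993326789901217467999448150835200000000 [19, 23, 29, 31] = true := by (first | (rewrite [Cfsg.Agent.KOe586092.e21]; decide +kernel) | decide +kernel)

theorem chk37 : chk [(2, 38), (3, 18), (5, 9), (7, 5), (11, 3), (13, 3), (17, 2), (19, 2), (23, 1), (29, 1), (31, 1), (37, 1)] 815915283247897734345611269596115894272000000000 [23, 29, 31, 37] = true := by (first | (rewrite [Cfsg.Agent.KOe586092.e21]; decide +kernel) | decide +kernel)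

end Cfsg.Agent.H357.Small
end

-- part: H357/Main
section
/-!
# The simple section is alternating (helper357)

`exists_alt` : `n ≥ 13`: the simple section of the reduction is an alternating group;
`main_large` : `n ≥ 13`: a group with the order and with element orders of `S_n` or `A_n` is `S_n` or `A_n`.
-/

set_option autoImplicit false

namespace Cfsg.Agent.H357.Main

open Cfsg Cfsg.Agent.OrdDiv Cfsg.Agent.H357.Reduce Cfsg.Agent.H405.Shape

universe u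

theorem two_mul_card {M : Type u} [Group M] (hna : ¬ ∀ a b : M, a * b = b * a) {m : ℕ}
    (e : M ≃* alternatingGroup (Fin m)) : 2 * Nat.card M = m.factorial := by
  have hm : 2 ≤ m := by
    by_contra hlt
    apply hna
    intro a b
    have : Subsingleton (alternatingGroup (Fin m)) := by
      have : Subsingleton (Fin m) := Fin.subsingleton_iff_le_one.2 (by omega)
      infer_instance
    apply e.injective
    exact Subsingleton.elim _ _
  rw [Nat.card_congr e.toEquiv]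
  exact Cfsg.Agent.H363.AltPrimes.card_alternating hm

theorem of_chk (T : OrderTable.{u}) {M : Type u} [Group M] (hk : IsKnownSimple' M)
    (hna : ¬ ∀ a b : M, a * b = b * a) {l : List (ℕ × ℕ)} {N : ℕ} {L : List ℕ} (hchk : Small.chk l N L = true)
    (hd : Nat.card M ∣ N) (hL : ∀ p ∈ L, p ∣ Nat.card M) : ∃ m, Nonempty (M ≃* alternatingGroup (Fin m)) := by
  unfold Small.chk at hchk
  rw [Bool.and_eq_true, List.all_eq_true] at hchk
  obtain ⟨g, hg, hr, ho⟩ := exists_good T hk hna hchk.1 hd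
  have h1 := hchk.2 g hg
  rw [Bool.or_eq_true] at h1
  rcases h1 with h1 | h1
  · cases g with
    | alt m => exact ⟨m, hr⟩
    | _ => exact Bool.noConfusion h1
  · exfalso
    rw [Bool.not_eq_true', List.all_eq_false] at h1
    obtain ⟨p, hp, h2⟩ := h1
    apply h2
    rw [← ho]
    simpa using Nat.mod_eq_zero_of_dvd (hL p hp)

theorem exists_alt (T : OrderTable.{u}) {G : Type u} [Group G] [Finite G] {n : ℕ} {N : Subgroup G} [N.Normal]
    {M : Subgroup (G ⧸ N)} (D : Data G n N M) (h : Hyp G n) (hn : 13 ≤ n) (hk : IsKnownSimple' M) :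
    ∃ m, Nonempty (M ≃* alternatingGroup (Fin m)) := by
  have hdvd : Nat.card M ∣ n.factorial := D.card_dvd.trans h.dvd
  rcases Nat.lt_or_ge n 41 with h41 | h41
  · have key : ∀ {l : List (ℕ × ℕ)} {b : ℕ} {L : List ℕ}, Small.chk l b.factorial L = true → n ≤ b →
        (∀ p ∈ L, p.Prime ∧ b < 2 * p ∧ p ≤ n) → ∃ m, Nonempty (M ≃* alternatingGroup (Fin m)) := by
      intro l b L hchk hnb hL
      refine of_chk T hk D.nonab hchk (hdvd.trans (Nat.factorial_dvd_factorial hnb)) fun p hp => ?_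
      obtain ⟨h1, h2, h3⟩ := hL p hp
      exact D.primes p h1 (by omega) h3
    rcases Nat.lt_or_ge n 17 with h17 | h17
    · refine key (b := 16) (by rw [show Nat.factorial 16 = 20922789888000 by rfl]; exact Small.chk13) (by omega) ?_
      intro p hp
      simp only [List.mem_cons, List.not_mem_nil, or_false] at hp
      rcases hp with rfl | rfl <;> exact ⟨by norm_num, by norm_num, by omega⟩
    rcases Nat.lt_or_ge n 19 with h19 | h19
    · refine key (b := 18) (by rw [show Nat.factorial 18 = 6402373705728000 by rfl]; exact Small.chk17) (by omega) ?_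
      intro p hp
      simp only [List.mem_cons, List.not_mem_nil, or_false] at hp
      rcases hp with rfl | rfl | rfl <;> exact ⟨by norm_num, by norm_num, by omega⟩
    rcases Nat.lt_or_ge n 23 with h23 | h23
    · refine key (b := 22) (by rw [show Nat.factorial 22 = 1124000727777607680000 by rfl]; exact Small.chk19) (by omega) ?_
      intro p hp
      simp only [List.mem_cons, List.not_mem_nil, or_false] at hp
      rcases hp with rfl | rfl | rfl <;> exact ⟨by norm_num, by norm_num, by omega⟩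
    rcases Nat.lt_or_ge n 29 with h29 | h29
    · refine key (b := 28) (by rw [show Nat.factorial 28 = 304888344611713860501504000000 by rfl]; exact Small.chk23) (by omega) ?_
      intro p hp
      simp only [List.mem_cons, List.not_mem_nil, or_false] at hp
      rcases hp with rfl | rfl | rfl <;> exact ⟨by norm_num, by norm_num, by omega⟩
    rcases Nat.lt_or_ge n 31 with h31 | h31
    · refine key (b := 30) (by rw [show Nat.factorial 30 = 265252859812191058636308480000000 by rfl]; exact Small.chk29) (by omega) ?_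
      intro p hp
      simp only [List.mem_cons, List.not_mem_nil, or_false] at hp
      rcases hp with rfl | rfl | rfl | rfl <;> exact ⟨by norm_num, by norm_num, by omega⟩
    rcases Nat.lt_or_ge n 37 with h37 | h37
    · refine key (b := 36) (by rw [show Nat.factorial 36 = 371993326789901217467999448150835200000000 by rfl]; exact Small.chk31) (by omega) ?_
      intro p hp
      simp only [List.mem_cons, List.not_mem_nil, or_false] at hp
      rcases hp with rfl | rfl | rfl | rfl <;> exact ⟨by norm_num, by norm_num, by omega⟩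
    · refine key (b := 40) (by rw [show Nat.factorial 40 = 815915283247897734345611269596115894272000000000 by rfl]; exact Small.chk37) (by omega) ?_
      intro p hp
      simp only [List.mem_cons, List.not_mem_nil, or_false] at hp
      rcases hp with rfl | rfl | rfl | rfl <;> exact ⟨by norm_num, by norm_num, by omega⟩
  · obtain ⟨g, hr, ho⟩ := exists_shape T hk D.nonab
    obtain ⟨m, rfl⟩ := LieBound.arith h41 hdvd (D.B_dvd h h41) D.primes ho
    exact ⟨m, hr⟩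

/-- **Large degrees** -/
theorem main_large (T : OrderTable.{u}) {G : Type u} [Group G] [Finite G] {n : ℕ} (hn : 13 ≤ n) (hs : Same G n)
    (hcl : ∀ (S : Type u) [Group S] [Finite S] [IsSimpleGroup S], IsKnownSimple' S) :
    Nonempty (G ≃* Equiv.Perm (Fin n)) ∨ Nonempty (G ≃* alternatingGroup (Fin n)) := by
  obtain ⟨N, hN, M, D⟩ := exists_data (by omega) hs.hyp
  have := D.simple
  obtain ⟨m, ⟨e⟩⟩ := exists_alt T D hs.hyp hn (hcl M)
  exact D.final hs hn e (two_mul_card D.nonab e)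

end Cfsg.Agent.H357.Main
end
end
end
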